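/-
Lifting specializations by extensions of valuation rings, and `HTop.HasValLift` / `HTop.IsStandardV`.
-/
import Groth.Prelude.Def_HTop
import Mathlib.AlgebraicGeometry.ValuativeCriterion
import Mathlib.AlgebraicGeometry.Morphisms.UniversallyOpen

universe w w' u

open CategoryTheory CategoryTheory.Limits AlgebraicGeometry Opposite IsLocalRing

namespace HTop26

open HTop

variable {T : Scheme.{u}}

/-- The generic point of the spectrum of a domain. -/
def gen (V : CommRingCat.{u}) [IsDomain V] : Spec V := ⟨⊥, Ideal.isPrime_bot⟩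

lemma gen_specializes {V : CommRingCat.{u}} [IsDomain V] (x : Spec V) : gen V ⤳ x :=
  (PrimeSpectrum.le_iff_specializes _ _).mp (show (⊥ : Ideal V) ≤ x.asIdeal from bot_le)

lemma specializes_closed {V : CommRingCat.{u}} [IsDomain V] [ValuationRing V] (x : Spec V) :
    x ⤳ closedPoint V := IsLocalRing.specializes_closedPoint x

lemma map_gen {V W : CommRingCat.{u}} [IsDomain V] [IsDomain W] (φ : V ⟶ W)
    (hφ : Function.Injective φ.hom) : Spec.map φ (gen W) = gen V := by
  apply PrimeSpectrum.ext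
  change Ideal.comap φ.hom ⊥ = ⊥
  exact (RingHom.injective_iff_ker_eq_bot _).mp hφ

/-- A specialization in a scheme is realized by a morphism from the spectrum of a valuation ring. -/
theorem exists_valuation_of_specializes {P : Scheme.{u}} {p₀ p : P} (h : p₀ ⤳ p) :
    ∃ (W : CommRingCat.{u}) (_ : IsDomain W) (_ : ValuationRing W) (m : Spec W ⟶ P),
      m (gen W) = p₀ ∧ m (closedPoint W) = p := by
  let σ : P.presheaf.stalk p ⟶ P.residueField p₀ :=
    P.presheaf.stalkSpecializes h ≫ P.residue p₀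
  obtain ⟨A, hA, hAl⟩ := IsLocalRing.exists_factor_valuationRing σ.hom
  let τ : P.presheaf.stalk p ⟶ CommRingCat.of A :=
    CommRingCat.ofHom (σ.hom.codRestrict _ hA)
  refine ⟨CommRingCat.of A, inferInstanceAs (IsDomain A), inferInstanceAs (ValuationRing A),
    Spec.map τ ≫ P.fromSpecStalk p, ?_, ?_⟩
  · have e : Spec.map (CommRingCat.ofHom (algebraMap A (P.residueField p₀))) ≫
        Spec.map τ ≫ P.fromSpecStalk p = P.fromSpecResidueField p₀ := by
      rw [← Spec.map_comp_assoc]
      have : τ ≫ CommRingCat.ofHom (algebraMap A (P.residueField p₀)) = σ := by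
        ext x; rfl
      rw [this]
      simp only [σ, Spec.map_comp, Category.assoc, Scheme.SpecMap_stalkSpecializes_fromSpecStalk]
      rfl
    have hg : Spec.map (CommRingCat.ofHom (algebraMap A (P.residueField p₀)))
        (closedPoint (P.residueField p₀)) = gen (CommRingCat.of A) := by
      apply PrimeSpectrum.ext
      change Ideal.comap (algebraMap A (P.residueField p₀))
        (maximalIdeal (P.residueField p₀)) = ⊥
      rw [IsLocalRing.maximalIdeal_eq_bot]
      exact (RingHom.injective_iff_ker_eq_bot _).mp (IsFractionRing.injective A _)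
    rw [← hg, ← Scheme.Hom.comp_apply, e]
    exact Scheme.fromSpecResidueField_apply _ _
  · rw [Scheme.Hom.comp_apply]
    have : Spec.map τ (closedPoint A) = closedPoint (P.presheaf.stalk p) :=
      IsLocalRing.comap_closedPoint (S := A) (σ.hom.codRestrict A.toSubring hA)
    erw [this]
    exact Scheme.fromSpecStalk_closedPoint

/-- A specialization over `gen V ⤳ closedPoint V` gives an extension of valuation rings. -/
theorem exists_ext_of_specializes {V : CommRingCat.{u}} [IsDomain V] [ValuationRing V]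
    {P : Scheme.{u}} (q : P ⟶ Spec V) {p₀ p : P} (h : p₀ ⤳ p) (h₀ : q p₀ = gen V)
    (h₁ : q p = closedPoint V) :
    ∃ (W : CommRingCat.{u}) (_ : IsDomain W) (_ : ValuationRing W) (φ : V ⟶ W),
      IsExtVal V W φ ∧ ∃ m : Spec W ⟶ P, m ≫ q = Spec.map φ := by
  obtain ⟨W, hW1, hW2, m, hm0, hm1⟩ := exists_valuation_of_specializes h
  refine ⟨W, hW1, hW2, Spec.preimage (m ≫ q), ⟨?_, ?_⟩, m, (Spec.map_preimage _).symm⟩
  · have e : Spec.map (Spec.preimage (m ≫ q)) (gen W) = gen V := by
      rw [Spec.map_preimage, Scheme.Hom.comp_apply, hm0, h₀]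
    rw [RingHom.injective_iff_ker_eq_bot]
    exact congrArg PrimeSpectrum.asIdeal e
  · refine ((IsLocalRing.local_hom_TFAE (Spec.preimage (m ≫ q)).hom).out 0 4).mpr ?_
    have e : Spec.map (Spec.preimage (m ≫ q)) (closedPoint W) = closedPoint V := by
      rw [Spec.map_preimage, Scheme.Hom.comp_apply, hm1, h₁]
    exact congrArg PrimeSpectrum.asIdeal e

lemma isExtVal_comp {V W U : CommRingCat.{u}} [IsDomain V] [ValuationRing V] [IsDomain W]
    [ValuationRing W] [IsDomain U] [ValuationRing U] {φ : V ⟶ W} {ψ : W ⟶ U}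
    (hφ : IsExtVal V W φ) (hψ : IsExtVal W U ψ) : IsExtVal V U (φ ≫ ψ) := by
  refine ⟨hψ.1.comp hφ.1, ?_⟩
  have := hφ.2
  have := hψ.2
  exact RingHom.isLocalHom_comp ψ.hom φ.hom

/-- The lifting condition of a family in terms of points of the fibre products. -/
theorem hasValLift_iff (E : PreZeroHypercover.{w} T) :
    HasValLift E ↔ ∀ (V : CommRingCat.{u}) [IsDomain V] [ValuationRing V] (g : Spec V ⟶ T),
      ∃ (j : E.I₀) (p₀ p : ↑(pullback g (E.f j))), p₀ ⤳ p ∧
        pullback.fst g (E.f j) p₀ = gen V ∧ pullback.fst g (E.f j) p = closedPoint V := by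
  constructor
  · intro h V _ _ g
    obtain ⟨W, _, _, φ, hφ, j, g', hg'⟩ := h V g
    let m : Spec W ⟶ pullback g (E.f j) := pullback.lift (Spec.map φ) g' hg'.symm
    refine ⟨j, m (gen W), m (closedPoint W), (gen_specializes _).map m.continuous, ?_, ?_⟩
    · rw [← Scheme.Hom.comp_apply, pullback.lift_fst]
      exact map_gen φ hφ.1
    · rw [← Scheme.Hom.comp_apply, pullback.lift_fst]
      have := hφ.2
      exact Spec_closedPoint
  · intro h V _ _ g
    obtain ⟨j, p₀, p, hsp, h₀, h₁⟩ := h V g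
    obtain ⟨W, hW1, hW2, φ, hφ, m, hm⟩ := exists_ext_of_specializes _ hsp h₀ h₁
    refine ⟨W, hW1, hW2, φ, hφ, j, m ≫ pullback.snd g (E.f j), ?_⟩
    rw [Category.assoc, ← pullback.condition, ← Category.assoc, hm]

theorem hasValLift_bind {E : PreZeroHypercover.{w} T} (hE : HasValLift E)
    {F : ∀ j, PreZeroHypercover.{w'} (E.X j)} (hF : ∀ j, HasValLift (F j)) :
    HasValLift (E.bind F) := by
  intro V _ _ g
  obtain ⟨W, _, _, φ, hφ, j, g', hg'⟩ := hE V g
  obtain ⟨U, hU1, hU2, ψ, hψ, k, g'', hg''⟩ := hF j W g'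
  refine ⟨U, hU1, hU2, φ ≫ ψ, isExtVal_comp hφ hψ, ⟨j, k⟩, g'', ?_⟩
  show g'' ≫ (F j).f k ≫ E.f j = _
  rw [← Category.assoc, hg'', Category.assoc, hg', Spec.map_comp, Category.assoc]

theorem hasValLift_pullback₁ {T' : Scheme.{u}} (g : T' ⟶ T) {E : PreZeroHypercover.{w} T}
    (hE : HasValLift E) : HasValLift (E.pullback₁ g) := by
  intro V _ _ h
  obtain ⟨W, hW1, hW2, φ, hφ, j, g', hg'⟩ := hE V (h ≫ g)
  refine ⟨W, hW1, hW2, φ, hφ, j, pullback.lift (Spec.map φ ≫ h) g'
    (by rw [Category.assoc, hg']), ?_⟩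
  exact pullback.lift_fst _ _ _

/-- A family refined by a family with the lifting property has the lifting property. -/
theorem HasValLift.of_refines {F : PreZeroHypercover.{w'} T} {E : PreZeroHypercover.{w} T}
    (hF : HasValLift F) (h : RefinesOver (𝟙 T) F E) : HasValLift E := by
  intro V _ _ g
  obtain ⟨W, hW1, hW2, φ, hφ, j, g', hg'⟩ := hF V g
  obtain ⟨i, k, hk⟩ := h j
  refine ⟨W, hW1, hW2, φ, hφ, i, g' ≫ k, ?_⟩
  rw [Category.assoc, hk, Category.comp_id, hg']

/-- A jointly surjective family of flat morphisms has the lifting property. -/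
theorem hasValLift_of_flat {E : PreZeroHypercover.{w} T} (hflat : ∀ j, Flat (E.f j))
    (hsurj : ∀ t : T, ∃ (j : E.I₀) (x : E.X j), E.f j x = t) : HasValLift E := by
  rw [hasValLift_iff]
  intro V _ _ g
  obtain ⟨j, x, hx⟩ := hsurj (g (closedPoint V))
  obtain ⟨p, hp, -⟩ := Scheme.Pullback.exists_preimage_pullback (f := g) (g := E.f j)
    (closedPoint V) x hx.symm
  have := hflat j
  have : Flat (pullback.fst g (E.f j)) := MorphismProperty.pullback_fst _ _ (hflat j)
  obtain ⟨p₀, hsp, hp₀⟩ := Flat.generalizingMap (pullback.fst g (E.f j))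
    (show gen V ⤳ pullback.fst g (E.f j) p from gen_specializes _)
  exact ⟨j, p₀, p, hsp, hp₀, hp⟩

/-- A proper surjective morphism restricted to an open covering of its source has the lifting
property. -/
theorem hasValLift_of_proper {E : PreZeroHypercover.{w} T} {U : Scheme.{u}} (f : U ⟶ T)
    (ι : ∀ j, E.X j ⟶ U) [UniversallyClosed f] [Surjective f] (hι : ∀ j, IsOpenImmersion (ι j))
    (hf : ∀ j, ι j ≫ f = E.f j) (hcov : ∀ x : U, ∃ j, x ∈ Set.range (ι j).base) :
    HasValLift E := by
  intro V _ _ g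
  have : Surjective (pullback.fst g f) := MorphismProperty.pullback_fst _ _ ‹_›
  have : UniversallyClosed (pullback.fst g f) := MorphismProperty.pullback_fst _ _ ‹_›
  obtain ⟨p₀, hp₀⟩ := (pullback.fst g f).surjective (gen V)
  obtain ⟨p, hsp, hp⟩ := (pullback.fst g f).isClosedMap.specializingMap
    (show pullback.fst g f p₀ ⤳ closedPoint V from hp₀ ▸ gen_specializes _)
  obtain ⟨W, hW1, hW2, φ, hφ, m, hm⟩ := exists_ext_of_specializes _ hsp hp₀ hp
  let l := m ≫ pullback.snd g f
  obtain ⟨j, hj⟩ := hcov (l (closedPoint W))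
  have := hι j
  have hrange : Set.range l ⊆ Set.range (ι j) := by
    rintro _ ⟨x, rfl⟩
    exact ((specializes_closed x).map l.continuous).mem_open
      (ι j).isOpenEmbedding.isOpen_range hj
  refine ⟨W, hW1, hW2, φ, hφ, j, IsOpenImmersion.lift (ι j) l hrange, ?_⟩
  rw [← hf j, IsOpenImmersion.lift_fac_assoc, Category.assoc, ← pullback.condition,
    ← Category.assoc, hm]

/-- The lifting property implies surjectivity. -/
theorem HasValLift.exists_preimage {E : PreZeroHypercover.{w} T} (hE : HasValLift E) (t : T) :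
    ∃ (j : E.I₀) (x : E.X j), E.f j x = t := by
  obtain ⟨W, _, _, m, hm, -⟩ := exists_valuation_of_specializes (specializes_rfl (x := t))
  obtain ⟨j, p₀, p, -, h₀, -⟩ := (hasValLift_iff E).mp hE W m
  refine ⟨j, pullback.snd m (E.f j) p₀, ?_⟩
  rw [← Scheme.Hom.comp_apply, ← pullback.condition, Scheme.Hom.comp_apply, h₀, hm]

theorem isStandardV_of_flat [IsAffine T] {E : PreZeroHypercover.{w} T} (hfin : Finite E.I₀)
    (haff : ∀ j, IsAffine (E.X j)) (hflat : ∀ j, Flat (E.f j))
    (hsurj : ∀ t : T, ∃ (j : E.I₀) (x : E.X j), E.f j x = t) : IsStandardV E :=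
  ⟨inferInstance, hfin, haff, hasValLift_of_flat hflat hsurj⟩

theorem isStandardV_of_isStandardPh {E : PreZeroHypercover.{w} T} (hE : IsStandardPh E) :
    IsStandardV E := by
  obtain ⟨U, f, ι, hp, hs, hι, hf, hcov⟩ := hE.exists_proper
  exact ⟨hE.isAffine, hE.finite_index, hE.isAffine_obj, hasValLift_of_proper f ι hι hf hcov⟩

theorem isStandardV_pullback₁ {T' : Scheme.{u}} [IsAffine T'] (g : T' ⟶ T)
    {E : PreZeroHypercover.{w} T} (hE : IsStandardV E) : IsStandardV (E.pullback₁ g) := by
  have := hE.isAffine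
  have := hE.isAffine_obj
  exact ⟨inferInstance, hE.finite_index,
    fun j => inferInstanceAs (IsAffine (pullback g (E.f j))), hasValLift_pullback₁ g hE.lift⟩

theorem isStandardV_bind {E : PreZeroHypercover.{w} T} (hE : IsStandardV E)
    {F : ∀ j, PreZeroHypercover.{w'} (E.X j)} (hF : ∀ j, IsStandardV (F j)) :
    IsStandardV (E.bind F) := by
  have := hE.finite_index
  have := fun j => (hF j).finite_index
  exact ⟨hE.isAffine, inferInstanceAs (Finite (Σ i, (F i).I₀)),
    fun jk => (hF jk.1).isAffine_obj jk.2, hasValLift_bind hE.lift fun j => (hF j).lift⟩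

theorem isStandardPh_pullback₁ {T' : Scheme.{u}} [IsAffine T'] (g : T' ⟶ T)
    {E : PreZeroHypercover.{w} T} (hE : IsStandardPh E) : IsStandardPh (E.pullback₁ g) := by
  have := hE.isAffine
  have := hE.isAffine_obj
  obtain ⟨U, f, ι, hp, hs, hι, hf, hcov⟩ := hE.exists_proper
  refine ⟨inferInstance, hE.finite_index, fun j => inferInstanceAs (IsAffine (pullback g (E.f j))),
    pullback g f, pullback.fst g f,
    fun j => pullback.map g (E.f j) g f (𝟙 _) (ι j) (𝟙 _) (by simp) (by simp [hf]),
    MorphismProperty.pullback_fst _ _ hp, MorphismProperty.pullback_fst _ _ hs, ?_, ?_, ?_⟩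
  · intro j
    have := hι j
    show IsOpenImmersion (pullback.map g (E.f j) g f (𝟙 _) (ι j) (𝟙 _) _ _)
    infer_instance
  · intro j
    exact (pullback.lift_fst _ _ _).trans (Category.comp_id _)
  · intro x
    obtain ⟨j, y, hy⟩ := hcov (pullback.snd g f x)
    refine ⟨j, ?_⟩
    have hxy : g (pullback.fst g f x) = E.f j y := by
      rw [← hf j, Scheme.Hom.comp_apply, hy, ← Scheme.Hom.comp_apply, pullback.condition,
        Scheme.Hom.comp_apply]
    have := hι j
    show x ∈ Set.range (pullback.map g (E.f j) g f (𝟙 _) (ι j) (𝟙 _) _ _)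
    rw [Scheme.Pullback.range_map]
    exact ⟨⟨pullback.fst g f x, by simp⟩, ⟨y, hy⟩⟩

end HTop26
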