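/-
V coverings: local criterion, base change, composition, fpqc, quotient maps.
-/
import Groth.Agent.Lib.HTop26.ValLift
import Groth.Prelude.Def_SGA1
import Mathlib.AlgebraicGeometry.Sites.Fpqc

universe w w' w'' u

open CategoryTheory CategoryTheory.Limits AlgebraicGeometry Opposite IsLocalRing

namespace HTop26

open HTop

variable {T : Scheme.{u}}

theorem RefinesOver.trans {U V : Scheme.{u}} {g : U ⟶ T} {g' : V ⟶ U}
    {F : PreZeroHypercover.{w} T} {G : PreZeroHypercover.{w'} U} {H : PreZeroHypercover.{w''} V}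
    (h : RefinesOver g G F) (h' : RefinesOver g' H G) : RefinesOver (g' ≫ g) H F := by
  intro j
  obtain ⟨i, k, hk⟩ := h' j
  obtain ⟨l, m, hm⟩ := h i
  exact ⟨l, k ≫ m, by rw [Category.assoc, hm, ← Category.assoc, hk, Category.assoc]⟩

theorem refinesOver_pullback₁_self {U : Scheme.{u}} (g : U ⟶ T) (F : PreZeroHypercover.{w} T) :
    RefinesOver g (F.pullback₁ g) F :=
  fun j => ⟨j, pullback.snd g (F.f j), pullback.condition.symm⟩

theorem RefinesOver.pullback₁ {U V : Scheme.{u}} {g : U ⟶ T} (k : V ⟶ U)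
    {F : PreZeroHypercover.{w} T} {G : PreZeroHypercover.{w'} U}
    (h : RefinesOver g G F) : RefinesOver (k ≫ g) (G.pullback₁ k) F :=
  RefinesOver.trans h (refinesOver_pullback₁_self k G)

theorem refinesOver_into_pullback₁ {U V : Scheme.{u}} {g : U ⟶ T} {k : V ⟶ U}
    {F : PreZeroHypercover.{w} T} {H : PreZeroHypercover.{w'} V}
    (h : RefinesOver (k ≫ g) H F) : RefinesOver k H (F.pullback₁ g) := by
  intro j
  obtain ⟨i, m, hm⟩ := h j
  refine ⟨i, pullback.lift (H.f j ≫ k) m (by rw [hm, Category.assoc]), ?_⟩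
  exact pullback.lift_fst _ _ _

/-- Local criterion: over an affine target, a family admits a standard V refinement as soon as it
does locally. -/
theorem exists_isStandardV_of_local {U : Scheme.{u}} [IsAffine U] (g : U ⟶ T)
    (E : PreZeroHypercover.{w} T)
    (h : ∀ x : U, ∃ W : U.Opens, x ∈ W ∧ IsAffineOpen W ∧
      ∃ F : PreZeroHypercover.{0} (W : Scheme.{u}), IsStandardV F ∧ RefinesOver (W.ι ≫ g) F E) :
    ∃ F : PreZeroHypercover.{0} U, IsStandardV F ∧ RefinesOver g F E := by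
  choose W hx hW F hF hR using h
  obtain ⟨t, ht⟩ := IsCompact.elim_finite_subcover (isCompact_univ (X := U)) (fun x => (W x : Set U))
    (fun x => (W x).2) (fun x _ => Set.mem_iUnion.mpr ⟨x, hx x⟩)
  let e := (Fintype.equivFin t).symm
  let Z : PreZeroHypercover.{0} U :=
    { I₀ := Fin (Fintype.card t)
      X := fun k => (W (e k).1 : Scheme.{u})
      f := fun k => (W (e k).1).ι }
  have hZ : IsStandardV Z := by
    refine isStandardV_of_flat (inferInstanceAs (Finite (Fin _))) (fun k => hW (e k).1)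
      (fun k => ?_) fun x => ?_
    · show Flat (W (e k).1).ι
      infer_instance
    · obtain ⟨y, hy, hxy⟩ := Set.mem_iUnion₂.mp (ht (Set.mem_univ x))
      refine ⟨e.symm ⟨y, hy⟩, ?_⟩
      show ∃ z : ↥((W (e (e.symm ⟨y, hy⟩)).1 : Scheme.{u})), (W _).ι z = x
      rw [Equiv.apply_symm_apply]
      exact ⟨⟨x, hxy⟩, rfl⟩
  refine ⟨Z.bind fun k => F (e k).1, isStandardV_bind hZ fun k => hF _, fun jk => ?_⟩
  obtain ⟨i, m, hm⟩ := hR (e jk.1).1 jk.2
  exact ⟨i, m, hm.trans (Category.assoc _ _ _).symm⟩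

theorem isVCover_of_local (E : PreZeroHypercover.{w} T)
    (h : ∀ (U : T.affineOpens) (x : ((U : T.Opens) : Scheme.{u})),
      ∃ W : ((U : T.Opens) : Scheme.{u}).Opens, x ∈ W ∧ IsAffineOpen W ∧
      ∃ F : PreZeroHypercover.{0} (W : Scheme.{u}), IsStandardV F ∧
        RefinesOver (W.ι ≫ (U : T.Opens).ι) F E) : IsVCover E := fun U => by
  have : IsAffine ((U : T.Opens) : Scheme.{u}) := U.2
  exact exists_isStandardV_of_local _ E (h U)

/-- A V covering has standard V refinements over every affine scheme mapping to the base. -/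
theorem IsVCover.exists_isStandardV {E : PreZeroHypercover.{w} T} (hE : IsVCover E)
    {Z : Scheme.{u}} [IsAffine Z] (g : Z ⟶ T) :
    ∃ F : PreZeroHypercover.{0} Z, IsStandardV F ∧ RefinesOver g F E := by
  refine exists_isStandardV_of_local g E fun x => ?_
  obtain ⟨U, hU, hxU, -⟩ := TopologicalSpace.Opens.isBasis_iff_nbhd.mp T.isBasis_affineOpens
    (show g x ∈ (⊤ : T.Opens) from trivial)
  obtain ⟨W, hW, hxW, hWle⟩ := TopologicalSpace.Opens.isBasis_iff_nbhd.mp Z.isBasis_affineOpens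
    (show x ∈ g ⁻¹ᵁ U from hxU)
  obtain ⟨F, hF, hR⟩ := hE ⟨U, hU⟩
  have : IsAffine (W : Scheme.{u}) := hW
  refine ⟨W, hxW, hW, F.pullback₁ (g.resLE U W hWle), isStandardV_pullback₁ _ hF, ?_⟩
  rw [← Scheme.Hom.resLE_comp_ι g hWle]
  exact RefinesOver.pullback₁ _ hR

theorem IsVCover.hasValLift {E : PreZeroHypercover.{w} T} (hE : IsVCover E) : HasValLift E := by
  intro V _ _ g
  obtain ⟨F, hF, hR⟩ := IsVCover.exists_isStandardV hE g
  obtain ⟨W, hW1, hW2, φ, hφ, j, g', hg'⟩ := hF.lift V (𝟙 _)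
  obtain ⟨i, k, hk⟩ := hR j
  refine ⟨W, hW1, hW2, φ, hφ, i, g' ≫ k, ?_⟩
  rw [Category.assoc, hk, ← Category.assoc, hg', Category.comp_id]

theorem isVCover_pullback₁ {T' : Scheme.{u}} (g : T' ⟶ T) {E : PreZeroHypercover.{w} T}
    (hE : IsVCover E) : IsVCover (E.pullback₁ g) := fun U => by
  have : IsAffine ((U : T'.Opens) : Scheme.{u}) := U.2
  obtain ⟨F, hF, hR⟩ := IsVCover.exists_isStandardV hE ((U : T'.Opens).ι ≫ g)
  exact ⟨F, hF, refinesOver_into_pullback₁ hR⟩

theorem isVCover_bind {E : PreZeroHypercover.{w} T} (hE : IsVCover E)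
    {F : ∀ i, PreZeroHypercover.{w'} (E.X i)} (hF : ∀ i, IsVCover (F i)) :
    IsVCover (E.bind F) := fun U => by
  obtain ⟨G, hG, hR⟩ := hE U
  choose i k hk using hR
  have := hG.isAffine_obj
  choose H hH hR' using fun j => IsVCover.exists_isStandardV (hF (i j)) (k j)
  refine ⟨G.bind H, isStandardV_bind hG hH, fun jl => ?_⟩
  obtain ⟨l, m, hm⟩ := hR' jl.1 jl.2
  refine ⟨⟨i jl.1, l⟩, m, ?_⟩
  show m ≫ (F (i jl.1)).f l ≫ E.f (i jl.1) = ((H jl.1).f jl.2 ≫ G.f jl.1) ≫ _
  rw [← Category.assoc, hm, Category.assoc, hk, Category.assoc]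

theorem isVCover_of_refines {E : PreZeroHypercover.{w} T} {E' : PreZeroHypercover.{w'} T}
    (hE : IsVCover E) (h : RefinesOver (𝟙 T) E E') : IsVCover E' := fun U => by
  obtain ⟨F, hF, hR⟩ := hE U
  refine ⟨F, hF, ?_⟩
  have := RefinesOver.trans h hR
  rwa [Category.comp_id] at this

/-- A flat family, quasi-compact and jointly surjective, is a V covering. -/
theorem isVCover_of_flat {E : PreZeroHypercover.{w} T} (hflat : ∀ i, Flat (E.f i))
    [QuasiCompactCover E] : IsVCover E := fun U => by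
  have : IsAffine ((U : T.Opens) : Scheme.{u}) := U.2
  obtain ⟨n, a, V, hV, heq⟩ :=
    QuasiCompactCover.exists_isAffineOpen_of_isCompact E U.2.isCompact
  have hle : ∀ k, (V k) ≤ E.f (a k) ⁻¹ᵁ (U : T.Opens) := fun k x hx => by
    show E.f (a k) x ∈ (U : T.Opens)
    rw [← SetLike.mem_coe, ← heq]
    exact Set.mem_iUnion.mpr ⟨k, x, hx, rfl⟩
  let F : PreZeroHypercover.{0} ((U : T.Opens) : Scheme.{u}) :=
    { I₀ := Fin n
      X := fun k => (V k : Scheme.{u})
      f := fun k => (E.f (a k)).resLE U (V k) (hle k) }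
  refine ⟨F, isStandardV_of_flat (inferInstanceAs (Finite (Fin n))) (fun k => hV k) (fun k => ?_)
    fun x => ?_, fun k => ⟨a k, (V k).ι, (Scheme.Hom.resLE_comp_ι _ _).symm⟩⟩
  · have := hflat (a k)
    show Flat ((E.f (a k)).resLE U (V k) (hle k))
    delta Scheme.Hom.resLE
    infer_instance
  · have hx : (U : T.Opens).ι x ∈ (⋃ k, E.f (a k) '' (V k : Set (E.X (a k)))) := heq ▸ x.2
    obtain ⟨k, y, hy, hyx⟩ := Set.mem_iUnion.mp hx
    refine ⟨k, ⟨y, hy⟩, ?_⟩
    apply (U : T.Opens).ι.isOpenEmbedding.injective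
    show ((E.f (a k)).resLE U (V k) (hle k) ≫ (U : T.Opens).ι) _ = _
    rw [Scheme.Hom.resLE_comp_ι]
    exact hyx

/-- A morphism of affine schemes with the lifting property is a quotient map. -/
theorem isClosed_image_of_hasValLift {Y U : Scheme.{u}} [IsAffine Y] [IsAffine U] (d : Y ⟶ U)
    (hd : HasValLift (PreZeroHypercover.singleton.{w} d)) {C : Set Y} (hC : IsClosed C)
    (hCs : d ⁻¹' (d '' C) = C) : IsClosed (d '' C) := by
  have hstab : StableUnderSpecialization (d '' C) := by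
    intro t' t htt ht'
    obtain ⟨W, _, _, m, hm0, hm1⟩ := exists_valuation_of_specializes htt
    obtain ⟨j, p₀, p, hsp, h₀, h₁⟩ := (hasValLift_iff _).mp hd W m
    let q : pullback m d ⟶ Y := pullback.snd m d
    have e : ∀ z : ↑(pullback m d), d (q z) = m (pullback.fst m d z) := fun z => by
      rw [← Scheme.Hom.comp_apply, ← pullback.condition, Scheme.Hom.comp_apply]
    have hy₀ : q p₀ ∈ C := by
      rw [← hCs]
      show d (q p₀) ∈ d '' C
      rw [e]
      exact (congrArg m h₀).trans hm0 ▸ ht'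
    exact ⟨q p, (hsp.map q.continuous).mem_closed hC hy₀, ((e p).trans (congrArg m h₁)).trans hm1⟩
  have e2 : ∀ y, (Spec.map d.appTop) (Y.isoSpec.hom y) = U.isoSpec.hom (d y) := fun y => by
    rw [← Scheme.Hom.comp_apply, Scheme.isoSpec_hom_naturality]
    rfl
  have hY : IsClosed (Y.isoSpec.hom '' C) := Y.isoSpec.hom.homeomorph.isClosedMap _ hC
  have him : (PrimeSpectrum.comap d.appTop.hom) '' (Y.isoSpec.hom '' C) =
      U.isoSpec.hom '' (d '' C) := by
    rw [Set.image_image, Set.image_image]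
    exact Set.image_congr fun y _ => e2 y
  have hstab' : StableUnderSpecialization (U.isoSpec.hom '' (d '' C)) :=
    hstab.image U.isoSpec.hom.homeomorph.isClosedMap.specializingMap
  have := PrimeSpectrum.isClosed_image_of_stableUnderSpecialization d.appTop.hom _ hY
    (him.symm ▸ hstab')
  exact U.isoSpec.hom.homeomorph.isClosed_image.mp ((congrArg IsClosed him).mp this)

/-- A singleton V covering is a quotient map. -/
theorem isQuotientMap_of_isVCover {X : Scheme.{u}} (f : X ⟶ T)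
    (hf : IsVCover (PreZeroHypercover.singleton.{w} f)) : Topology.IsQuotientMap f := by
  rw [Topology.isQuotientMap_iff_isClosed]
  have hsurj : Function.Surjective f := fun t => by
    obtain ⟨j, x, hx⟩ := HasValLift.exists_preimage (IsVCover.hasValLift hf) t
    exact ⟨x, hx⟩
  refine ⟨hsurj, fun s => ⟨fun h => h.preimage f.continuous, fun h => ?_⟩⟩
  have hcov : ∀ t : T, ∃ U : T.affineOpens, t ∈ (U : T.Opens) := fun t => by
    obtain ⟨U, hU, hxU, -⟩ := TopologicalSpace.Opens.isBasis_iff_nbhd.mp T.isBasis_affineOpens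
      (show t ∈ (⊤ : T.Opens) from trivial)
    exact ⟨⟨U, hU⟩, hxU⟩
  rw [← isOpen_compl_iff, isOpen_iff_forall_mem_open]
  intro t ht
  obtain ⟨U, htU⟩ := hcov t
  have : IsAffine ((U : T.Opens) : Scheme.{u}) := U.2
  obtain ⟨F, hF, hR⟩ := hf U
  choose i k hk using hR
  have := hF.isAffine_obj
  have := hF.finite_index
  let d : (∐ F.X) ⟶ ((U : T.Opens) : Scheme.{u}) := Sigma.desc F.f
  let D : (∐ F.X) ⟶ X := Sigma.desc fun j => k j
  have hd : HasValLift (PreZeroHypercover.singleton.{0} d) :=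
    HasValLift.of_refines hF.lift fun j => ⟨PUnit.unit, Sigma.ι F.X j,
      (Sigma.ι_desc _ _).trans (Category.comp_id _).symm⟩
  have hD : D ≫ f = d ≫ (U : T.Opens).ι := by
    apply Sigma.hom_ext
    intro j
    simp only [D, d, Sigma.ι_desc_assoc]
    exact hk j
  have hdsurj : Function.Surjective d := fun x => by
    obtain ⟨j, y, hy⟩ := HasValLift.exists_preimage hd x
    exact ⟨y, hy⟩
  let Z : Set ((U : T.Opens) : Scheme.{u}) := (U : T.Opens).ι ⁻¹' s
  have hC : d ⁻¹' Z = D ⁻¹' (f ⁻¹' s) := by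
    ext y
    show (U : T.Opens).ι (d y) ∈ s ↔ f (D y) ∈ s
    rw [← Scheme.Hom.comp_apply, ← hD, Scheme.Hom.comp_apply]
  have hZ : IsClosed Z := by
    have := isClosed_image_of_hasValLift d hd (C := d ⁻¹' Z) (hC ▸ h.preimage D.continuous)
      (by rw [Set.image_preimage_eq Z hdsurj])
    rwa [Set.image_preimage_eq Z hdsurj] at this
  refine ⟨(U : T.Opens).ι '' Zᶜ, ?_, (U : T.Opens).ι.isOpenEmbedding.isOpenMap _ hZ.isOpen_compl,
    ⟨⟨t, htU⟩, ht, rfl⟩⟩
  rintro _ ⟨x, hx, rfl⟩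
  exact hx

theorem isVCover_singleton_sigmaDesc {E : PreZeroHypercover.{u} T} (hE : IsVCover E) :
    IsVCover (PreZeroHypercover.singleton.{0} (Sigma.desc E.f)) :=
  isVCover_of_refines hE fun j => ⟨PUnit.unit, Sigma.ι E.X j,
    (Sigma.ι_desc _ _).trans (Category.comp_id _).symm⟩

theorem univSubmersive_of_isVCover {X : Scheme.{u}} (f : X ⟶ T)
    (hf : IsVCover (PreZeroHypercover.singleton.{w} f)) : SGA1.UnivSubmersive f := by
  intro X' T' i₁ i₂ f' H
  refine isQuotientMap_of_isVCover.{w} f' (isVCover_of_refines (isVCover_pullback₁ i₂ hf) ?_)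
  intro j
  refine ⟨PUnit.unit, H.isoPullback.inv, ?_⟩
  show H.isoPullback.inv ≫ f' = pullback.fst i₂ f ≫ 𝟙 _
  simp

end HTop26
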