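/-
Sheaf conditions for the V, ph and h coverings.
-/
import Groth.Agent.Lib.HTop26.VCover
import Groth.Agent.Lib.CurveNF.SigmaProper
import Mathlib.CategoryTheory.Sites.Canonical
import Mathlib.AlgebraicGeometry.Sites.BigZariski

universe w w' u

open CategoryTheory CategoryTheory.Limits AlgebraicGeometry Opposite

namespace HTop26

open HTop

variable {T : Scheme.{u}}

lemma pullback_generate_singleton {X Y Z : Scheme.{u}} (f : X ⟶ Y) (g : Z ⟶ Y) :
    (Sieve.generate (Presieve.singleton f)).pullback g =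
      Sieve.generate (Presieve.singleton (pullback.fst g f)) := by
  ext W h
  constructor
  · rintro ⟨_, k, _, ⟨⟩, hk⟩
    exact ⟨_, pullback.lift h k hk.symm, _, ⟨⟩, pullback.lift_fst _ _ _⟩
  · rintro ⟨_, l, _, ⟨⟩, rfl⟩
    exact ⟨_, l ≫ pullback.snd g f, _, ⟨⟩, by
      rw [Category.assoc, ← pullback.condition, Category.assoc]⟩

lemma pullback_generate_presieve₀ {Z : Scheme.{u}} (E : PreZeroHypercover.{w} T) (g : Z ⟶ T) :
    (Sieve.generate E.presieve₀).pullback g = Sieve.generate (E.pullback₁ g).presieve₀ := by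
  ext W h
  constructor
  · rintro ⟨_, k, _, ⟨i⟩, hk⟩
    exact ⟨_, pullback.lift h k hk.symm, _, ⟨i⟩, pullback.lift_fst _ _ _⟩
  · rintro ⟨_, l, _, ⟨i⟩, rfl⟩
    refine ⟨_, l ≫ pullback.snd g (E.f i), _, ⟨i⟩, ?_⟩
    show (l ≫ pullback.snd g (E.f i)) ≫ E.f i = (l ≫ pullback.fst g (E.f i)) ≫ g
    rw [Category.assoc, Category.assoc]
    exact congrArg (l ≫ ·) pullback.condition.symm

lemma generate_le_pullback_of_refines {U : Scheme.{u}} {g : U ⟶ T}
    {F : PreZeroHypercover.{w'} U} {E : PreZeroHypercover.{w} T} (h : RefinesOver g F E) :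
    Sieve.generate F.presieve₀ ≤ (Sieve.generate E.presieve₀).pullback g := by
  rw [Sieve.generate_le_iff]
  rintro _ _ ⟨j⟩
  obtain ⟨i, k, hk⟩ := h j
  exact ⟨_, k, _, ⟨i⟩, hk⟩

/-- The finest topology for which `F` is a sheaf. -/
abbrev topOf (F : Scheme.{u}ᵒᵖ ⥤ Type w) : GrothendieckTopology Scheme.{u} :=
  Sheaf.finestTopologySingle F

variable {F : Scheme.{u}ᵒᵖ ⥤ Type w}

lemma zariski_le_topOf (hF : Presieve.IsSheaf Scheme.zariskiTopology F) :
    Scheme.zariskiTopology ≤ topOf F :=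
  fun _ _ hS _ f => hF _ (Scheme.zariskiTopology.pullback_stable f hS)

lemma isSheafFor_of_mem {R : Presieve T} (h : Sieve.generate R ∈ topOf F T) :
    R.IsSheafFor F := by
  rw [Presieve.isSheafFor_iff_generate]
  simpa using h T (𝟙 T)

lemma singleton_mem_topOf {X : Scheme.{u}} (f : X ⟶ T)
    (h : ∀ (Z : Scheme.{u}) (g : Z ⟶ T), (Presieve.singleton (pullback.fst g f)).IsSheafFor F) :
    Sieve.generate (Presieve.singleton f) ∈ topOf F T := fun Z g => by
  rw [pullback_generate_singleton, ← Presieve.isSheafFor_iff_generate]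
  exact h Z g

/-- A sieve all whose restrictions to affine schemes have the sheaf property is in the finest
topology of a Zariski sheaf. -/
theorem mem_topOf_of_affine (hF : Presieve.IsSheaf Scheme.zariskiTopology F) (S : Sieve T)
    (h : ∀ (Z : Scheme.{u}) [IsAffine Z] (g : Z ⟶ T),
      Presieve.IsSheafFor F (S.pullback g).arrows) : S ∈ topOf F T := by
  intro Y g
  have zsep : ∀ (W : Scheme.{u}) (a b : F.obj (op W)) (𝒰 : W.OpenCover),
      (∀ i, F.map (𝒰.f i).op a = F.map (𝒰.f i).op b) → a = b := by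
    intro W a b 𝒰 hab
    refine (hF _ 𝒰.mem_grothendieckTopology).isSeparatedFor.ext ?_
    rintro V f ⟨_, k, _, ⟨i⟩, rfl⟩
    simp only [op_comp, Functor.map_comp, types_comp_apply, hab i]
  have sep : ∀ (W : Scheme.{u}) (k : W ⟶ T),
      Presieve.IsSeparatedFor F (S.pullback k).arrows := by
    intro W k x t₁ t₂ h₁ h₂
    refine zsep W t₁ t₂ W.affineCover fun i => ?_
    have := h _ (W.affineCover.f i ≫ k)
    refine this.isSeparatedFor.ext fun V f hf => ?_
    have hf' : S.pullback k (f ≫ W.affineCover.f i) := by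
      simpa [Sieve.pullback_apply, Category.assoc] using hf
    rw [← Functor.map_comp_apply, ← Functor.map_comp_apply, ← op_comp,
      h₁ _ hf', h₂ _ hf']
  intro x hx
  let 𝒰 := Y.affineCover
  have hloc : ∀ i, ∃! t : F.obj (op (𝒰.X i)), ∀ (V : Scheme.{u}) (f : V ⟶ 𝒰.X i)
      (hf : S.pullback g (f ≫ 𝒰.f i)), F.map f.op t = x (f ≫ 𝒰.f i) hf := by
    intro i
    have := h _ (𝒰.f i ≫ g)
    let y : Presieve.FamilyOfElements F (S.pullback (𝒰.f i ≫ g)).arrows := fun V f hf =>
      x (f ≫ 𝒰.f i) (by simpa [Sieve.pullback_apply, Category.assoc] using hf)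
    have hy : y.Compatible := fun V₁ V₂ W g₁ g₂ f₁ f₂ h₁ h₂ he =>
      hx g₁ g₂ _ _ (by simp [reassoc_of% he])
    obtain ⟨t, ht, hu⟩ := this y hy
    refine ⟨t, fun V f hf => ht f (by simpa [Sieve.pullback_apply, Category.assoc] using hf),
      fun t' ht' => hu t' fun V f hf => ht' V f
        (by simpa [Sieve.pullback_apply, Category.assoc] using hf)⟩
  choose t ht _ using hloc
  have hcomp : Presieve.Arrows.Compatible F 𝒰.f t := by
    intro i j W gi gj he
    refine (sep W (gi ≫ 𝒰.f i ≫ g)).ext fun V f hf => ?_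
    have hi : S.pullback g ((f ≫ gi) ≫ 𝒰.f i) := by
      simpa [Sieve.pullback_apply, Category.assoc] using hf
    have hj : S.pullback g ((f ≫ gj) ≫ 𝒰.f j) := by
      rw [Category.assoc, ← he, ← Category.assoc]; exact hi
    rw [← Functor.map_comp_apply, ← Functor.map_comp_apply, ← op_comp, ← op_comp,
      ht i _ _ hi, ht j _ _ hj]
    congr 1
    rw [Category.assoc, Category.assoc, he]
  have hz : (Presieve.ofArrows 𝒰.X 𝒰.f).IsSheafFor F :=
    (Presieve.isSheafFor_iff_generate _).mpr (hF _ 𝒰.mem_grothendieckTopology)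
  obtain ⟨s, hs, hu⟩ := (Presieve.isSheafFor_arrows_iff F 𝒰.f).mp hz t hcomp
  refine ⟨s, fun V f hf => ?_, fun s' hs' => hu s' fun i => ?_⟩
  · refine (hF _ (Scheme.zariskiTopology.pullback_stable f
      𝒰.mem_grothendieckTopology)).isSeparatedFor.ext fun W k hk => ?_
    obtain ⟨_, l, _, ⟨i⟩, hl⟩ := hk
    have h' : S.pullback g (l ≫ 𝒰.f i) := by
      rw [hl]; exact (S.pullback g).downward_closed hf k
    rw [← Functor.map_comp_apply, ← op_comp, ← hl, op_comp, Functor.map_comp_apply,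
      hs i, ht i _ _ h']
    rw [← Presieve.FamilyOfElements.comp_of_compatible (S.pullback g) hx hf k]
    congr 1
  · refine (h _ (𝒰.f i ≫ g)).isSeparatedFor.ext fun V f hf => ?_
    have hf' : S.pullback g (f ≫ 𝒰.f i) := by
      simpa [Sieve.pullback_apply, Category.assoc] using hf
    rw [← Functor.map_comp_apply, ← op_comp, hs' _ hf', ht i V f hf']

lemma openCover_mem_topOf (hF : Presieve.IsSheaf Scheme.zariskiTopology F) (𝒰 : T.OpenCover) :
    Sieve.generate 𝒰.presieve₀ ∈ topOf F T :=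
  zariski_le_topOf hF _ 𝒰.mem_grothendieckTopology

/-- Locality of membership on the affine opens of the base. -/
lemma mem_topOf_of_affineOpens (hF : Presieve.IsSheaf Scheme.zariskiTopology F) (R : Sieve T)
    (h : ∀ U : T.affineOpens, R.pullback (U : T.Opens).ι ∈ topOf F _) : R ∈ topOf F T := by
  have hc : TopologicalSpace.IsOpenCover (fun U : T.affineOpens => (U : T.Opens)) :=
    TopologicalSpace.IsOpenCover.mk (iSup_affineOpens_eq_top T)
  refine (topOf F).transitive (openCover_mem_topOf hF (T.openCoverOfIsOpenCover _ hc)) R ?_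
  rintro Y _ ⟨_, k, _, ⟨U⟩, rfl⟩
  rw [Sieve.pullback_comp]
  exact (topOf F).pullback_stable k (h U)

/-- If every affine open has a refinement in the finest topology, so is the family. -/
lemma presieve₀_mem_topOf (hF : Presieve.IsSheaf Scheme.zariskiTopology F)
    (E : PreZeroHypercover.{w'} T)
    (h : ∀ U : T.affineOpens, ∃ G : PreZeroHypercover.{0} ((U : T.Opens) : Scheme.{u}),
      Sieve.generate G.presieve₀ ∈ topOf F _ ∧ RefinesOver (U : T.Opens).ι G E) :
    Sieve.generate E.presieve₀ ∈ topOf F T := by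
  refine mem_topOf_of_affineOpens hF _ fun U => ?_
  obtain ⟨G, hG, hR⟩ := h U
  exact (topOf F).superset_covering (generate_le_pullback_of_refines hR) hG

/-- Standard ph coverings are in the finest topology once proper surjective morphisms are. -/
theorem standardPh_mem_topOf (hF : Presieve.IsSheaf Scheme.zariskiTopology F)
    (hp : ∀ (U V : Scheme.{u}) (f : V ⟶ U), IsProper f → Surjective f →
      (Presieve.singleton f).IsSheafFor F)
    (E : PreZeroHypercover.{w'} T) (hE : IsStandardPh E) :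
    Sieve.generate E.presieve₀ ∈ topOf F T := by
  obtain ⟨U, f, ι, hfp, hfs, hι, hf, hcov⟩ := hE.exists_proper
  refine (topOf F).transitive (singleton_mem_topOf (F := F) f fun Z g =>
    hp _ _ _ (MorphismProperty.pullback_fst _ _ hfp) (MorphismProperty.pullback_fst _ _ hfs)) _ ?_
  rintro Y _ ⟨_, k, _, ⟨⟩, rfl⟩
  rw [Sieve.pullback_comp]
  refine (topOf F).pullback_stable k ((topOf F).superset_covering ?_
    (zariski_le_topOf hF _ (Precoverage.generate_mem_toGrothendieck (R := Presieve.ofArrows E.X ι)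
      ((Scheme.presieve₀_mem_precoverage_iff ⟨E.I₀, E.X, ι⟩).mpr ⟨hcov, hι⟩))))
  rw [Sieve.generate_le_iff]
  rintro _ _ ⟨j⟩
  exact ⟨_, 𝟙 _, _, ⟨j⟩, by rw [Category.id_comp, hf j]⟩

/-- If the morphism from the coproduct is covering in the finest topology, so is the family. -/
theorem presieve₀_mem_topOf_of_sigmaDesc (hF : Presieve.IsSheaf Scheme.zariskiTopology F)
    (E : PreZeroHypercover.{u} T)
    (h : Sieve.generate (Presieve.singleton (Sigma.desc E.f)) ∈ topOf F T) :
    Sieve.generate E.presieve₀ ∈ topOf F T := by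
  refine (topOf F).transitive h _ ?_
  rintro Y _ ⟨_, k, _, ⟨⟩, rfl⟩
  rw [Sieve.pullback_comp]
  refine (topOf F).pullback_stable k ((topOf F).superset_covering ?_
    (openCover_mem_topOf hF (sigmaOpenCover E.X)))
  rw [Sieve.generate_le_iff]
  rintro _ _ ⟨i⟩
  exact ⟨_, 𝟙 _, _, ⟨i⟩, by
    rw [Category.id_comp]
    exact (Sigma.ι_desc E.f i).symm⟩

theorem isStandardV_reindex {E : PreZeroHypercover.{w} T} (hE : IsStandardV E) {ι : Type w'}
    (e : ι ≃ E.I₀) : IsStandardV (E.reindex e) := by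
  have := hE.finite_index
  refine ⟨hE.isAffine, Finite.of_equiv _ e.symm, fun j => hE.isAffine_obj (e j),
    HasValLift.of_refines hE.lift fun i => ?_⟩
  obtain ⟨j, rfl⟩ := e.surjective i
  exact ⟨j, 𝟙 _, (Category.id_comp _).trans (Category.comp_id _).symm⟩

theorem IsStandardV.isVCover {E : PreZeroHypercover.{w} T} (hE : IsStandardV E) : IsVCover E :=
  fun U => by
  have : IsAffine ((U : T.Opens) : Scheme.{u}) := U.2
  have := hE.finite_index
  obtain ⟨n, ⟨e⟩⟩ := Finite.exists_equiv_fin E.I₀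
  refine ⟨(E.reindex e.symm).pullback₁ (U : T.Opens).ι,
    isStandardV_pullback₁ _ (isStandardV_reindex hE e.symm), fun j => ?_⟩
  exact ⟨e.symm j, pullback.snd (U : T.Opens).ι (E.f (e.symm j)), pullback.condition.symm⟩

theorem isVCover_openCover (𝒰 : T.OpenCover) : IsVCover 𝒰.toPreZeroHypercover :=
  isVCover_of_flat fun i => by
    have := 𝒰.map_prop i
    infer_instance

theorem zariski_of_isVSheaf (hF : IsVSheaf F) : Presieve.IsSheaf Scheme.zariskiTopology F := by
  rw [Precoverage.isSheaf_toGrothendieck_iff_of_isStableUnderBaseChange_of_small]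
  intro X 𝒰
  exact hF _ ((presieve₀_mem_vPrecoverage_iff _).mpr (isVCover_openCover 𝒰))

theorem isVSheaf_of (hF : Presieve.IsSheaf Scheme.zariskiTopology F)
    (h : ∀ (U : Scheme.{u}) (E : PreZeroHypercover.{0} U), IsStandardV E →
      Sieve.generate E.presieve₀ ∈ topOf F U) : IsVSheaf F := by
  intro X R hR
  obtain ⟨E, hE, rfl⟩ := PreZeroHypercoverFamily.mem_precoverage_iff.mp hR
  refine isSheafFor_of_mem (presieve₀_mem_topOf hF E fun U => ?_)
  obtain ⟨G, hG, hGR⟩ := (hE : IsVCover E) U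
  exact ⟨G, h _ G hG, hGR⟩

theorem isPhSheaf_of (hF : Presieve.IsSheaf Scheme.zariskiTopology F)
    (hp : ∀ (U V : Scheme.{u}) (f : V ⟶ U), IsProper f → Surjective f →
      (Presieve.singleton f).IsSheafFor F) : IsPhSheaf F := by
  intro X R hR
  obtain ⟨E, hE, rfl⟩ := PreZeroHypercoverFamily.mem_precoverage_iff.mp hR
  refine isSheafFor_of_mem (presieve₀_mem_topOf hF E fun U => ?_)
  obtain ⟨G, hG, hGR⟩ := (hE : IsPhCover E).2 U
  exact ⟨G, standardPh_mem_topOf hF hp G hG, hGR⟩

/-- A finite jointly surjective family of proper morphisms refines, over every affine open, to a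
standard ph covering. -/
theorem exists_standardPh_of_proper {σ : Type u} [Finite σ] {X : σ → Scheme.{u}}
    (f : ∀ s, X s ⟶ T) [∀ s, IsProper (f s)] (hs : ∀ t : T, ∃ s, t ∈ Set.range (f s))
    (U : T.affineOpens) :
    ∃ G : PreZeroHypercover.{0} ((U : T.Opens) : Scheme.{u}), IsStandardPh G ∧
      RefinesOver (U : T.Opens).ι G ⟨σ, X, f⟩ := by
  classical
  have : IsAffine ((U : T.Opens) : Scheme.{u}) := U.2
  let P : σ → Scheme.{u} := fun s => (f s ⁻¹ᵁ (U : T.Opens) : Scheme.{u})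
  let q : ∀ s, P s ⟶ ((U : T.Opens) : Scheme.{u}) := fun s => f s ∣_ (U : T.Opens)
  have hq : ∀ s, IsProper (q s) := fun s => IsZariskiLocalAtTarget.restrict (inferInstance : IsProper (f s)) _
  have hproper : IsProper (Sigma.desc q) := by
    let e := ((U : T.Opens) : Scheme.{u}).isoSpec
    have h : IsProper (Sigma.desc fun s => q s ≫ e.hom) :=
      Groth.Agent.CurveNF.isProper_sigmaDesc _
    have h' : Sigma.desc q = (Sigma.desc fun s => q s ≫ e.hom) ≫ e.inv :=
      Sigma.hom_ext _ _ fun s => by simp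
    rw [h']
    infer_instance
  have hsurj : Surjective (Sigma.desc q) := ⟨fun u => by
    obtain ⟨s, x, hx⟩ := hs u.1
    refine ⟨Sigma.ι P s ⟨x, show f s x ∈ (U : T.Opens) from hx ▸ u.2⟩, ?_⟩
    rw [← Scheme.Hom.comp_apply, Sigma.ι_desc]
    apply (U : T.Opens).ι.isOpenEmbedding.injective
    show (q s ≫ (U : T.Opens).ι) _ = _
    rw [morphismRestrict_ι]
    exact hx⟩
  have hcomp : ∀ s, ∃ A : Set (P s).affineOpens, A.Finite ∧
      ∀ x : P s, ∃ a ∈ A, x ∈ (a : (P s).Opens) := by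
    intro s
    have : CompactSpace (P s) := QuasiCompact.compactSpace_of_compactSpace (q s)
    obtain ⟨A, hA, hAeq⟩ := (isCompact_iff_finite_and_eq_biUnion_affineOpens (U := ⊤)).mp
      (isCompact_univ (X := P s))
    refine ⟨A, hA, fun x => ?_⟩
    have hx : x ∈ (⊤ : (P s).Opens) := trivial
    rw [hAeq] at hx
    simpa using hx
  choose A hA hAc using hcomp
  have : Finite (Σ s, A s) := by
    have := fun s => (hA s).to_subtype
    infer_instance
  obtain ⟨n, ⟨e⟩⟩ := Finite.exists_equiv_fin (Σ s, A s)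
  let G : PreZeroHypercover.{0} ((U : T.Opens) : Scheme.{u}) :=
    { I₀ := Fin n
      X := fun k => ((e.symm k).2.1.1 : Scheme.{u})
      f := fun k => (e.symm k).2.1.1.ι ≫ q (e.symm k).1 }
  refine ⟨G, ⟨inferInstance, inferInstanceAs (Finite (Fin n)), fun k => (e.symm k).2.1.2,
    _, Sigma.desc q, fun k => (e.symm k).2.1.1.ι ≫ Sigma.ι P (e.symm k).1, hproper, hsurj,
    fun k => inferInstanceAs (IsOpenImmersion (_ ≫ _)), fun k => ?_, fun x => ?_⟩,
    fun k => ⟨(e.symm k).1, (e.symm k).2.1.1.ι ≫ (f (e.symm k).1 ⁻¹ᵁ (U : T.Opens)).ι, ?_⟩⟩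
  · exact (Category.assoc _ _ _).trans (congrArg ((e.symm k).2.1.1.ι ≫ ·) (Sigma.ι_desc q _))
  · obtain ⟨s, y, rfl⟩ := Groth.Agent.CurveNF.exists_sigma_eq x
    obtain ⟨a, ha, hya⟩ := hAc s y
    obtain ⟨k, hk⟩ := e.symm.surjective ⟨s, a, ha⟩
    refine ⟨k, ?_⟩
    show Sigma.ι P s y ∈ Set.range ((e.symm k).2.1.1.ι ≫ Sigma.ι P (e.symm k).1)
    rw [hk]
    exact ⟨⟨y, hya⟩, Scheme.Hom.comp_apply _ _ _⟩
  · show ((e.symm k).2.1.1.ι ≫ _) ≫ f _ = ((e.symm k).2.1.1.ι ≫ q _) ≫ _
    rw [Category.assoc, Category.assoc, morphismRestrict_ι]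

theorem isPhCover_of_proper {σ : Type u} [Finite σ] {X : σ → Scheme.{u}} (f : ∀ s, X s ⟶ T)
    [∀ s, IsProper (f s)] (hs : ∀ t : T, ∃ s, t ∈ Set.range (f s)) :
    IsPhCover (⟨σ, X, f⟩ : PreZeroHypercover.{u} T) :=
  ⟨fun s => show LocallyOfFiniteType (f s) from inferInstance, exists_standardPh_of_proper f hs⟩

theorem isHCover_of_proper {σ : Type u} [Finite σ] {X : σ → Scheme.{u}} (f : ∀ s, X s ⟶ T)
    [∀ s, IsProper (f s)] [∀ s, LocallyOfFinitePresentation (f s)]
    (hs : ∀ t : T, ∃ s, t ∈ Set.range (f s)) :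
    IsHCover (⟨σ, X, f⟩ : PreZeroHypercover.{u} T) :=
  ⟨fun s => show LocallyOfFinitePresentation (f s) from inferInstance, fun U => by
    obtain ⟨G, hG, hR⟩ := exists_standardPh_of_proper f hs U
    exact ⟨G, isStandardV_of_isStandardPh hG, hR⟩⟩

end HTop26
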