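/-
Descent squares for sheaves on the big ph and h sites.
-/
import Groth.Agent.Lib.HTop26.Site
import Groth.Prelude.Def_HTop3
import Mathlib.CategoryTheory.Sites.Over

universe w u

open CategoryTheory CategoryTheory.Limits AlgebraicGeometry Opposite

namespace HTop26

open HTop

variable {S : Scheme.{u}}

/-- A family on `Y : Over S` covering in the precoverage generates an `Over`-covering sieve. -/
lemma generate_ofArrows_mem_over {K : Precoverage Scheme.{u}} {Y : Over S} {σ : Type u}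
    {X : σ → Over S} (f : ∀ s, X s ⟶ Y)
    (h : (⟨σ, fun s => (X s).left, fun s => (f s).left⟩ :
      PreZeroHypercover.{u} Y.left).presieve₀ ∈ K Y.left) :
    Sieve.generate (Presieve.ofArrows X f) ∈ (K.toGrothendieck.over S) Y := by
  rw [GrothendieckTopology.mem_over_iff]
  refine K.toGrothendieck.superset_covering ?_ (Precoverage.generate_mem_toGrothendieck h)
  rw [Sieve.generate_le_iff]
  rintro _ _ ⟨s⟩
  exact ⟨X s, f s, 𝟙 _, Sieve.le_generate _ _ _ ⟨s⟩, (Category.id_comp _).symm⟩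

lemma ph_over_mem {Y : Over S} {σ : Type u} [Finite σ] {X : σ → Over S} (f : ∀ s, X s ⟶ Y)
    [∀ s, IsProper (f s).left] (hs : ∀ t : Y.left, ∃ s, t ∈ Set.range (f s).left) :
    Sieve.generate (Presieve.ofArrows X f) ∈ Jph S Y :=
  generate_ofArrows_mem_over f
    ((presieve₀_mem_phPrecoverage_iff _).mpr (isPhCover_of_proper (fun s => (f s).left) hs))

lemma h_over_mem {Y : Over S} {σ : Type u} [Finite σ] {X : σ → Over S} (f : ∀ s, X s ⟶ Y)
    [∀ s, IsProper (f s).left] [∀ s, LocallyOfFinitePresentation (f s).left]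
    (hs : ∀ t : Y.left, ∃ s, t ∈ Set.range (f s).left) :
    Sieve.generate (Presieve.ofArrows X f) ∈ Jh S Y :=
  generate_ofArrows_mem_over f
    ((presieve₀_mem_hPrecoverage_iff _).mpr (isHCover_of_proper (fun s => (f s).left) hs))

/-- A covering by a monomorphism induces a bijection on sections. -/
lemma bijective_of_mono {J : GrothendieckTopology (Over S)} {F : (Over S)ᵒᵖ ⥤ Type w}
    (hF : Presieve.IsSheaf J F) {X Y : Over S} (f : X ⟶ Y) [Mono f.left]
    (h : Sieve.generate (Presieve.ofArrows (fun _ : PUnit.{u + 1} => X) fun _ => f) ∈ J Y) :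
    Function.Bijective (F.map f.op) := by
  have hs := (Presieve.isSheafFor_iff_generate _).mpr (hF _ h)
  rw [Presieve.isSheafFor_arrows_iff] at hs
  refine Function.bijective_iff_existsUnique _ |>.mpr fun x => ?_
  obtain ⟨t, ht, hu⟩ := hs (fun _ => x) fun _ _ Z g₁ g₂ he => by
    have : g₁ = g₂ := Over.OverMorphism.ext
      ((cancel_mono f.left).mp (congrArg CommaMorphism.left he))
    rw [this]
  exact ⟨t, ht PUnit.unit, fun t' ht' => hu t' fun _ => ht'⟩

/-- The two-element family `i : Z ⟶ Y`, `f : X ⟶ Y`. -/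
abbrev pairObj {α : Type*} (A B : α) : ULift.{u} Bool → α := fun s => if s.down then A else B

section

variable {J : GrothendieckTopology (Over S)} {F : (Over S)ᵒᵖ ⥤ Type w}

/-- Cartesian squares from coverings. -/
theorem existsUnique_of_covers (hF : Presieve.IsSheaf J F) {E Z X Y : Over S} (e : E ⟶ X)
    (π : E ⟶ Z) (f : X ⟶ Y) (i : Z ⟶ Y) [Mono i.left]
    (hsq : IsPullback e.left π.left f.left i.left)
    {P : Over S} (p₁ p₂ : P ⟶ X) (hp : p₁ ≫ f = p₂ ≫ f)
    (hlift : ∀ (W : Over S) (a b : W ⟶ X), a ≫ f = b ≫ f → ∃ c : W ⟶ P, c ≫ p₁ = a ∧ c ≫ p₂ = b)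
    (Δ : X ⟶ P) (hΔ₁ : Δ ≫ p₁ = 𝟙 X) (hΔ₂ : Δ ≫ p₂ = 𝟙 X) {Q : Over S} (j : Q ⟶ P) (qZ : Q ⟶ Z)
    (hq : j ≫ p₁ ≫ f = qZ ≫ i)
    (h₁ : ∀ G : Sieve Y, G i → G f → G ∈ J Y) (h₂ : ∀ G : Sieve P, G Δ → G j → G ∈ J P)
    (t : F.obj (op Z)) (s' : F.obj (op X)) (hts : F.map π.op t = F.map e.op s') :
    ∃! s : F.obj (op Y), F.map i.op s = t ∧ F.map f.op s = s' := by
  have hw : e ≫ f = π ≫ i := Over.OverMorphism.ext hsq.w
  have key : ∀ (W : Over S) (a : W ⟶ X) (b : W ⟶ Z), a ≫ f = b ≫ i →
      F.map a.op s' = F.map b.op t := by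
    intro W a b hab
    have h' : a.left ≫ f.left = b.left ≫ i.left := congrArg CommaMorphism.left hab
    let r : W ⟶ E := Over.homMk (hsq.lift a.left b.left h') (by
      rw [← Over.w e, ← Category.assoc, hsq.lift_fst]; exact Over.w a)
    have ha : r ≫ e = a := Over.OverMorphism.ext (hsq.lift_fst _ _ _)
    have hb : r ≫ π = b := Over.OverMorphism.ext (hsq.lift_snd _ _ _)
    rw [← ha, ← hb, op_comp, op_comp, Functor.map_comp_apply, Functor.map_comp_apply, hts]
  have keyP : F.map p₁.op s' = F.map p₂.op s' := by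
    refine (hF _ (h₂ (Sieve.generate (Presieve.singleton Δ) ⊔ Sieve.generate (Presieve.singleton j))
      (Or.inl (Sieve.le_generate _ _ _ ⟨⟩)) (Or.inr (Sieve.le_generate _ _ _ ⟨⟩)))).isSeparatedFor.ext
        fun W g hg => ?_
    rcases hg with ⟨_, k, _, ⟨⟩, rfl⟩ | ⟨_, k, _, ⟨⟩, rfl⟩
    · rw [← Functor.map_comp_apply, ← Functor.map_comp_apply, ← op_comp, ← op_comp,
        Category.assoc, Category.assoc, hΔ₁, hΔ₂]
    · rw [← Functor.map_comp_apply, ← Functor.map_comp_apply, ← op_comp, ← op_comp,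
        key W ((k ≫ j) ≫ p₁) (k ≫ qZ) (by simp [hq]),
        key W ((k ≫ j) ≫ p₂) (k ≫ qZ) (by simp [← hp, hq])]
  let G : Sieve Y := Sieve.generate (Presieve.singleton i) ⊔ Sieve.generate (Presieve.singleton f)
  have hG : G ∈ J Y := h₁ G (Or.inl (Sieve.le_generate _ _ _ ⟨⟩)) (Or.inr (Sieve.le_generate _ _ _ ⟨⟩))
  have hfam : Sieve.generate (Presieve.ofArrows (pairObj Z X)
      (fun s : ULift.{u} Bool => match s with | ⟨true⟩ => i | ⟨false⟩ => f)) ∈ J Y := by
    refine J.superset_covering ?_ hG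
    rintro W g (⟨_, k, _, ⟨⟩, rfl⟩ | ⟨_, k, _, ⟨⟩, rfl⟩)
    · exact ⟨_, k, _, ⟨(⟨true⟩ : ULift.{u} Bool)⟩, rfl⟩
    · exact ⟨_, k, _, ⟨(⟨false⟩ : ULift.{u} Bool)⟩, rfl⟩
  have hs := (Presieve.isSheafFor_iff_generate _).mpr (hF _ hfam)
  rw [Presieve.isSheafFor_arrows_iff] at hs
  let x : ∀ s : ULift.{u} Bool, F.obj (op (pairObj Z X s)) :=
    fun s => match s with | ⟨true⟩ => t | ⟨false⟩ => s'
  obtain ⟨s, hs₁, hu⟩ := hs x (by
    rintro ⟨a⟩ ⟨b⟩ W ga gb he
    cases a <;> cases b
    · obtain ⟨c, hc₁, hc₂⟩ := hlift W ga gb he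
      show F.map ga.op s' = F.map gb.op s'
      rw [← hc₁, ← hc₂, op_comp, op_comp, Functor.map_comp_apply, Functor.map_comp_apply, keyP]
    · exact key W ga gb he
    · exact (key W gb ga he.symm).symm
    · have : ga = gb := Over.OverMorphism.ext
        ((cancel_mono i.left).mp (congrArg CommaMorphism.left he))
      rw [this])
  refine ⟨s, ⟨hs₁ ⟨true⟩, hs₁ ⟨false⟩⟩, fun s₂ hs₂ => hu s₂ ?_⟩
  rintro ⟨a⟩
  cases a
  · exact hs₂.2
  · exact hs₂.1

end

section

variable {E Z X Y : Over S} (f : X ⟶ Y) (i : Z ⟶ Y)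

/-- The self fibre product of `f` over `S`. -/
noncomputable abbrev selfProd : Over S := Over.mk (pullback.fst f.left f.left ≫ X.hom)

/-- First projection. -/
noncomputable abbrev pr₁ : selfProd f ⟶ X := Over.homMk (pullback.fst f.left f.left) rfl

/-- Second projection. -/
noncomputable abbrev pr₂ : selfProd f ⟶ X := Over.homMk (pullback.snd f.left f.left) (by
  show pullback.snd f.left f.left ≫ X.hom = pullback.fst f.left f.left ≫ X.hom
  rw [← Over.w f, ← Category.assoc, ← pullback.condition, Category.assoc])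

/-- The part of the self fibre product over `Z`. -/
noncomputable abbrev overZ : Over S :=
  Over.mk (pullback.fst (pullback.fst f.left f.left ≫ f.left) i.left ≫ (selfProd f).hom)

/-- Its inclusion. -/
noncomputable abbrev overZι : overZ f i ⟶ selfProd f :=
  Over.homMk (pullback.fst (pullback.fst f.left f.left ≫ f.left) i.left) rfl

/-- Its projection to `Z`. -/
noncomputable abbrev overZπ : overZ f i ⟶ Z :=
  Over.homMk (pullback.snd (pullback.fst f.left f.left ≫ f.left) i.left) (by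
    show pullback.snd _ _ ≫ Z.hom = pullback.fst _ _ ≫ pullback.fst f.left f.left ≫ X.hom
    rw [← Over.w i, ← Category.assoc, ← pullback.condition, Category.assoc, Category.assoc,
      Over.w f])

/-- The diagonal. -/
noncomputable abbrev diag : X ⟶ selfProd f :=
  Over.homMk (pullback.diagonal f.left) (by
    show pullback.diagonal f.left ≫ pullback.fst f.left f.left ≫ X.hom = X.hom
    simp)

/-- The descent square: from coverings of `Y` and of the self fibre product. -/
theorem existsUnique_of_proper {J : GrothendieckTopology (Over S)} {F : (Over S)ᵒᵖ ⥤ Type w}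
    (hF : Presieve.IsSheaf J F) (e : E ⟶ X) (π : E ⟶ Z)
    [IsClosedImmersion i.left] [IsProper f.left]
    (hsq : IsPullback e.left π.left f.left i.left)
    (h₁ : ∀ G : Sieve Y, G i → G f → G ∈ J Y)
    (h₂ : (∀ z : (selfProd f).left,
        z ∈ Set.range (diag f).left ∨ z ∈ Set.range (overZι f i).left) →
      ∀ G : Sieve (selfProd f), G (diag f) → G (overZι f i) → G ∈ J (selfProd f))
    (hiso : ∀ (W : Scheme.{u}) (a b : W ⟶ X.left), a ≫ f.left = b ≫ f.left →
      (∀ w : W, f.left (a w) ∉ Set.range i.left) → a = b)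
    (t : F.obj (op Z)) (s' : F.obj (op X)) (hts : F.map π.op t = F.map e.op s') :
    ∃! s : F.obj (op Y), F.map i.op s = t ∧ F.map f.op s = s' := by
  have hP : ∀ (W : Over S) (a b : W ⟶ X), a ≫ f = b ≫ f →
      ∃ c : W ⟶ selfProd f, c ≫ pr₁ f = a ∧ c ≫ pr₂ f = b := by
    intro W a b hab
    refine ⟨Over.homMk (pullback.lift a.left b.left (congrArg CommaMorphism.left hab)) ?_, ?_, ?_⟩
    · show pullback.lift _ _ _ ≫ pullback.fst f.left f.left ≫ X.hom = W.hom
      rw [← Category.assoc, pullback.lift_fst, Over.w a]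
    · exact Over.OverMorphism.ext (pullback.lift_fst _ _ _)
    · exact Over.OverMorphism.ext (pullback.lift_snd _ _ _)
  refine existsUnique_of_covers hF e π f i hsq (pr₁ f) (pr₂ f)
    (Over.OverMorphism.ext pullback.condition) hP (diag f)
    (Over.OverMorphism.ext (pullback.diagonal_fst _)) (Over.OverMorphism.ext (pullback.diagonal_snd _))
    (overZι f i) (overZπ f i) (Over.OverMorphism.ext pullback.condition) h₁ (h₂ fun z => ?_) t s' hts
  by_cases hz : f.left (pullback.fst f.left f.left z) ∈ Set.range i.left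
  · obtain ⟨x, hx⟩ := hz
    obtain ⟨w, hw, -⟩ := Scheme.Pullback.exists_preimage_pullback
      (f := pullback.fst f.left f.left ≫ f.left) (g := i.left) z x hx.symm
    exact Or.inr ⟨w, hw⟩
  · let O : (pullback f.left f.left).Opens :=
      ⟨(pullback.fst f.left f.left ≫ f.left) ⁻¹' (Set.range i.left)ᶜ,
        (i.left.isClosedEmbedding.isClosed_range.isOpen_compl).preimage (Scheme.Hom.continuous _)⟩
    have heq : O.ι ≫ pullback.fst f.left f.left = O.ι ≫ pullback.snd f.left f.left :=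
      hiso _ _ _ (by simp [pullback.condition]) fun w => w.2
    have hO : O.ι = (O.ι ≫ pullback.fst f.left f.left) ≫ pullback.diagonal f.left := by
      apply pullback.hom_ext <;> simp [heq]
    refine Or.inl ?_
    have : O.ι ⟨z, hz⟩ ∈ Set.range (pullback.diagonal f.left) := by
      rw [hO]; exact ⟨_, (Scheme.Hom.comp_apply _ _ _).symm⟩
    exact this

/-- Two proper morphisms covering `Y` generate a ph covering sieve. -/
theorem ph_pair_mem {Y A B : Over S} (a : A ⟶ Y) (b : B ⟶ Y) [IsProper a.left] [IsProper b.left]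
    (hs : ∀ y : Y.left, y ∈ Set.range a.left ∨ y ∈ Set.range b.left)
    (G : Sieve Y) (ha : G a) (hb : G b) : G ∈ Jph S Y := by
  let g : ∀ s : ULift.{u} Bool, pairObj A B s ⟶ Y :=
    fun s => match s with | ⟨true⟩ => a | ⟨false⟩ => b
  have : ∀ s, IsProper (g s).left := by rintro ⟨_ | _⟩ <;> assumption
  refine (Jph S).superset_covering ?_ (ph_over_mem g fun y => ?_)
  · rw [Sieve.generate_le_iff]
    rintro _ _ ⟨⟨_ | _⟩⟩ <;> assumption
  · rcases hs y with h | h
    · exact ⟨⟨true⟩, h⟩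
    · exact ⟨⟨false⟩, h⟩

/-- Two proper finitely presented morphisms covering `Y` generate an h covering sieve. -/
theorem h_pair_mem {Y A B : Over S} (a : A ⟶ Y) (b : B ⟶ Y) [IsProper a.left] [IsProper b.left]
    [LocallyOfFinitePresentation a.left] [LocallyOfFinitePresentation b.left]
    (hs : ∀ y : Y.left, y ∈ Set.range a.left ∨ y ∈ Set.range b.left)
    (G : Sieve Y) (ha : G a) (hb : G b) : G ∈ Jh S Y := by
  let g : ∀ s : ULift.{u} Bool, pairObj A B s ⟶ Y :=
    fun s => match s with | ⟨true⟩ => a | ⟨false⟩ => b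
  have : ∀ s, IsProper (g s).left := by rintro ⟨_ | _⟩ <;> assumption
  have : ∀ s, LocallyOfFinitePresentation (g s).left := by rintro ⟨_ | _⟩ <;> assumption
  refine (Jh S).superset_covering ?_ (h_over_mem g fun y => ?_)
  · rw [Sieve.generate_le_iff]
    rintro _ _ ⟨⟨_ | _⟩⟩ <;> assumption
  · rcases hs y with h | h
    · exact ⟨⟨true⟩, h⟩
    · exact ⟨⟨false⟩, h⟩

end

end HTop26
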