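/-
Blow-ups away from the centre; finite type kernels of finitely presented closed immersions.
-/
import Groth.Agent.Lib.HTop26.Square
import Groth.Agent.Lib.SchBasic.Basic
import Mathlib.AlgebraicGeometry.Morphisms.ClosedImmersion

universe u

open CategoryTheory CategoryTheory.Limits AlgebraicGeometry Opposite

namespace HTop26

lemma isEffCartierIdeal_top {X : Scheme.{u}} :
    BlowUp.IsEffCartierIdeal (⊤ : X.IdealSheafData) := fun x => by
  obtain ⟨U, hU, hxU, -⟩ := TopologicalSpace.Opens.isBasis_iff_nbhd.mp X.isBasis_affineOpens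
    (show x ∈ (⊤ : X.Opens) from trivial)
  exact ⟨⟨U, hU⟩, hxU, 1, one_mem _, by simp [Scheme.IdealSheafData.ideal_top]⟩

lemma comap_eq_top {X Y : Scheme.{u}} (C : X.IdealSheafData) (g : Y ⟶ X)
    (h : ∀ y, g y ∉ C.support) : C.comap g = ⊤ := by
  rw [← Scheme.IdealSheafData.support_eq_bot_iff, Scheme.IdealSheafData.support_comap]
  apply TopologicalSpace.Closeds.ext
  exact Set.eq_empty_iff_forall_notMem.mpr h

/-- Two morphisms into a blow-up agreeing on the base, away from the centre, are equal. -/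
lemma eq_of_away {X X' P : Scheme.{u}} {b : X' ⟶ X} {C : X.IdealSheafData}
    (hb : BlowUp.IsBlowUp b C) (a a' : P ⟶ X') (h : a ≫ b = a' ≫ b)
    (hC : ∀ p, b (a p) ∉ C.support) : a = a' := by
  refine (hb.2 P (a ≫ b) ?_).unique rfl h.symm
  rw [comap_eq_top C (a ≫ b) fun p => by rw [Scheme.Hom.comp_apply]; exact hC p]
  exact isEffCartierIdeal_top

lemma exists_preimage_away {X X' : Scheme.{u}} {b : X' ⟶ X} {C : X.IdealSheafData}
    (hb : BlowUp.IsBlowUp b C) {x : X} (hx : x ∉ C.support) : ∃ y, b y = x := by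
  let A : X.Opens := C.support.compl
  obtain ⟨s, hs, -⟩ := hb.2 _ A.ι (by
    rw [comap_eq_top C A.ι fun y => y.2]
    exact isEffCartierIdeal_top)
  refine ⟨s ⟨x, hx⟩, ?_⟩
  rw [← Scheme.Hom.comp_apply, hs]
  rfl

lemma support_ker {Z X : Scheme.{u}} (i : Z ⟶ X) [IsClosedImmersion i] (x : X) :
    x ∈ i.ker.support ↔ x ∈ Set.range i := by
  rw [← SetLike.mem_coe, Scheme.Hom.support_ker, i.isClosedEmbedding.isClosed_range.closure_eq]

lemma isFiniteTypeIdeal_ker {Z X : Scheme.{u}} (i : Z ⟶ X) [IsClosedImmersion i]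
    [LocallyOfFinitePresentation i] : BlowUp.IsFiniteTypeIdeal i.ker := fun U => by
  rw [Scheme.Hom.ker_apply]
  have hV : IsAffineOpen (i ⁻¹ᵁ U.1) := U.2.preimage i
  have hsurj : Function.Surjective (i.app U.1).hom := i.app_surjective U.1 U.2
  have hfp := LocallyOfFinitePresentation.finitePresentation_appLE (f := i) U.2 hV le_rfl
  rw [Scheme.Hom.appLE_eq_app] at hfp
  algebraize [(i.app U.1).hom]
  exact Algebra.FinitePresentation.ker_fG_of_surjective (Algebra.ofId _ _) hsurj

/-- In an almost blow-up square two morphisms equalized on the base and avoiding the centre agree. -/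
lemma almost_eq_of_away {E Z X' X P : Scheme.{u}} {e : E ⟶ X'} {π : E ⟶ Z} {b : X' ⟶ X}
    {i : Z ⟶ X} (h : HTop.IsAlmostBlowUpSquare e π b i) (a a' : P ⟶ X') (hab : a ≫ b = a' ≫ b)
    (hC : ∀ p, b (a p) ∉ Set.range i) : a = a' := by
  have := h.isClosedImmersion
  set C := i.ker.comap b
  have hfac : ∀ c : P ⟶ X', (∀ p, b (c p) ∉ Set.range i) →
      ∃ d : P ⟶ (HTop.supportedOn C).subscheme, d ≫ (HTop.supportedOn C).subschemeι = c := by
    intro c hc
    let A := HTop.awayFrom C
    have hr : Set.range c ⊆ Set.range A.ι := by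
      rw [Scheme.Opens.range_ι]
      rintro _ ⟨p, rfl⟩ hp
      have hp' : c p ∈ (i.ker.comap b).support := hp
      rw [Scheme.IdealSheafData.support_comap] at hp'
      exact hc p ((support_ker i _).mp hp')
    refine ⟨IsOpenImmersion.lift A.ι c hr ≫ A.ι.toImage, ?_⟩
    rw [Category.assoc]
    exact (congrArg (IsOpenImmersion.lift A.ι c hr ≫ ·) A.ι.toImage_imageι).trans
      (IsOpenImmersion.lift_fac _ _ _)
  obtain ⟨d, hd⟩ := hfac a hC
  obtain ⟨d', hd'⟩ := hfac a' fun p => by
    rw [← Scheme.Hom.comp_apply, ← hab, Scheme.Hom.comp_apply]; exact hC p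
  have := eq_of_away h.isBlowUp d d' (by rw [← Category.assoc, ← Category.assoc, hd, hd', hab])
    fun p hp => hC p (by
      rw [← support_ker i, ← hd, Scheme.Hom.comp_apply]
      rw [Scheme.Hom.comp_apply] at hp
      exact hp)
  rw [← hd, ← hd', this]

end HTop26
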