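/-
Almost blow up squares: locally principal ideals and the sections supported on them.
-/
import Groth.Agent.Lib.EffCartier.Dense
import Groth.Prelude.Def_HTop3
import Mathlib.AlgebraicGeometry.Morphisms.ClosedImmersion

universe u

open CategoryTheory CategoryTheory.Limits AlgebraicGeometry TopologicalSpace

set_option backward.isDefEq.respectTransparency.types false

namespace Groth.Agent.HTop26

open Groth.Agent.EffCartier AlgebraicGeometry.Scheme AlgebraicGeometry.Scheme.IdealSheafData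

variable {X Y : Scheme.{u}} {J : X.IdealSheafData}

lemma basicOpen_eq_of_span {U : X.affineOpens} {f : Γ(X, U.1)} (h : J.ideal U = Ideal.span {f}) :
    X.basicOpen f = cmpl J ⊓ U.1 := by
  ext x
  refine ⟨fun hx => ⟨fun hs => ?_, X.basicOpen_le f hx⟩, fun ⟨hs, hxU⟩ => ?_⟩
  · have hs' : x ∈ J.support := hs
    rw [mem_support_iff_of_mem (X.basicOpen_le f hx), h, Scheme.zeroLocus_span, Scheme.mem_zeroLocus_iff] at hs'
    exact hs' f rfl hx
  · by_contra hx
    refine hs ?_
    show x ∈ J.support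
    rw [mem_support_iff_of_mem hxU, h, Scheme.zeroLocus_span, Scheme.mem_zeroLocus_iff]
    intro r hr; rw [Set.mem_singleton_iff] at hr; subst hr; exact hx

lemma quasiCompact_cmpl (hJ : HTop.IsLocPrincipal J) : QuasiCompact (cmpl J).ι := by
  have : IsAffineHom (cmpl J).ι := by
    refine isAffineHom_of_forall_exists_isAffineOpen _ fun x => ?_
    obtain ⟨U, hxU, f, hf⟩ := hJ x
    refine ⟨U.1, hxU, U.2, ?_⟩
    have h : IsAffineOpen ((cmpl J).ι ''ᵁ ((cmpl J).ι ⁻¹ᵁ U.1)) := by
      rw [Scheme.Hom.image_preimage_eq_opensRange_inf, Scheme.Opens.opensRange_ι, ← basicOpen_eq_of_span hf]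
      exact U.2.basicOpen f
    exact ((cmpl J).ι.isAffineOpen_iff_of_isOpenImmersion).mp h
  infer_instance

lemma isLocPrincipal_comap (hJ : HTop.IsLocPrincipal J) (φ : Y ⟶ X) : HTop.IsLocPrincipal (J.comap φ) := by
  intro y
  obtain ⟨U, hxU, f, hf⟩ := hJ (φ y)
  obtain ⟨_, ⟨V, hV, rfl⟩, hyV, hVU : V ≤ φ ⁻¹ᵁ U.1⟩ :=
    Y.isBasis_affineOpens.exists_subset_of_mem_open (show y ∈ φ ⁻¹ᵁ U.1 from hxU) (φ ⁻¹ᵁ U.1).isOpen
  exact ⟨⟨V, hV⟩, hyV, φ.appLE U V hVU f, by
    rw [comap_ideal J φ U ⟨V, hV⟩ hVU, hf, Ideal.map_span, Set.image_singleton]⟩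

lemma isEffCartierIdeal_of_dominant (hJ : HTop.IsLocPrincipal J)
    [IsSchemeTheoreticallyDominant (cmpl J).ι] : BlowUp.IsEffCartierIdeal J := by
  have := quasiCompact_cmpl hJ
  intro x
  obtain ⟨U, hxU, f, hf⟩ := hJ x
  refine ⟨U, hxU, f, ?_, hf⟩
  rw [mem_nonZeroDivisors_iff_right]
  intro z hz
  apply ((cmpl J).ι.app_injective U.1)
  rw [map_zero]
  have hu : IsUnit ((cmpl J).ι.app U.1 f) := by
    have hle : (cmpl J).ι ''ᵁ ((cmpl J).ι ⁻¹ᵁ U.1) ≤ X.basicOpen f := by
      rw [Scheme.Hom.image_preimage_eq_opensRange_inf, Scheme.Opens.opensRange_ι, basicOpen_eq_of_span hf]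
    rw [Scheme.Opens.ι_app, Subsingleton.elim (homOfLE _) (homOfLE hle ≫ homOfLE (X.basicOpen_le _)),
      op_comp, Functor.map_comp]
    exact IsUnit.map (X.presheaf.map (homOfLE hle).op).hom (RingedSpace.isUnit_res_basicOpen _ _)
  refine hu.mul_left_eq_zero.mp ?_
  rw [← map_mul, hz, map_zero]

lemma preimage_cmpl (φ : Y ⟶ X) (J : X.IdealSheafData) : φ ⁻¹ᵁ cmpl J = cmpl (J.comap φ) := by
  ext y
  show φ y ∉ J.support ↔ y ∉ (J.comap φ).support
  rw [Scheme.IdealSheafData.support_comap]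
  rfl

/-- Removing the sections supported on a locally principal ideal makes it effective Cartier. -/
theorem isEffCartierIdeal_comap_supportedOn (hJ : HTop.IsLocPrincipal J) :
    BlowUp.IsEffCartierIdeal (J.comap (HTop.supportedOn J).subschemeι) := by
  have := quasiCompact_cmpl hJ
  have h := dominant_preimage_imageι (cmpl J).ι (cmpl J) fun x => x.2
  have : IsSchemeTheoreticallyDominant (cmpl (J.comap (HTop.supportedOn J).subschemeι)).ι := by
    rw [← preimage_cmpl]
    exact h
  exact isEffCartierIdeal_of_dominant (isLocPrincipal_comap hJ _)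

/-- A morphism pulling `J` back to an effective Cartier ideal kills the sections supported on `J`. -/
theorem supportedOn_le_ker {W : Scheme.{u}} (k : W ⟶ X) (hk : BlowUp.IsEffCartierIdeal (J.comap k)) :
    HTop.supportedOn J ≤ k.ker := by
  have := dominant_cmpl hk
  rw [← preimage_cmpl] at this
  calc HTop.supportedOn J ≤ ((k ∣_ cmpl J) ≫ (cmpl J).ι).ker := Scheme.Hom.le_ker_comp _ _
    _ = k.ker := by
      rw [morphismRestrict_ι, Scheme.Hom.ker_comp, Scheme.Hom.ker_eq_bot, Scheme.IdealSheafData.map_bot]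

/-- The universal property of an almost blow up. -/
theorem isBlowUp_supportedOn_iff (b : X ⟶ Y) (I : Y.IdealSheafData) (hJ : HTop.IsLocPrincipal (I.comap b)) :
    BlowUp.IsBlowUp ((HTop.supportedOn (I.comap b)).subschemeι ≫ b) I ↔
      ∀ (W : Scheme.{u}) (g : W ⟶ Y), BlowUp.IsEffCartierIdeal (I.comap g) → ∃! k : W ⟶ X, k ≫ b = g := by
  constructor
  · intro hb W g hg
    obtain ⟨h, hh, hu⟩ := hb.2 W g hg
    refine ⟨h ≫ (HTop.supportedOn (I.comap b)).subschemeι, (Category.assoc _ _ _).trans hh, fun k hk => ?_⟩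
    have hle : (HTop.supportedOn (I.comap b)).subschemeι.ker ≤ k.ker := by
      rw [ker_subschemeι]
      exact supportedOn_le_ker k (by rw [← Scheme.IdealSheafData.comap_comp, hk]; exact hg)
    rw [← IsClosedImmersion.lift_fac _ k hle]
    congr 1
    exact hu _ (show IsClosedImmersion.lift (HTop.supportedOn (I.comap b)).subschemeι k hle ≫
      (HTop.supportedOn (I.comap b)).subschemeι ≫ b = g by rw [IsClosedImmersion.lift_fac_assoc, hk])
  · intro h
    refine ⟨by rw [Scheme.IdealSheafData.comap_comp]; exact isEffCartierIdeal_comap_supportedOn hJ, fun W g hg => ?_⟩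
    obtain ⟨k, hk, hu⟩ := h W g hg
    have hle : (HTop.supportedOn (I.comap b)).subschemeι.ker ≤ k.ker := by
      rw [ker_subschemeι]
      exact supportedOn_le_ker k (by rw [← Scheme.IdealSheafData.comap_comp, hk]; exact hg)
    refine ⟨IsClosedImmersion.lift _ k hle, ?_, fun l hl => ?_⟩
    · show _ ≫ _ ≫ b = g
      rw [IsClosedImmersion.lift_fac_assoc, hk]
    · rw [← cancel_mono (HTop.supportedOn (I.comap b)).subschemeι, IsClosedImmersion.lift_fac]
      exact hu _ ((Category.assoc _ _ _).trans hl)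

end Groth.Agent.HTop26
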