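/-
Universally submersive morphisms lift specializations along discrete valuation rings.
-/
import Groth.Agent.Lib.HTop26.BlowUpAway
import Groth.Agent.Lib.DVRVal.Basic
import Mathlib.AlgebraicGeometry.Morphisms.QuasiCompact
import Mathlib.AlgebraicGeometry.Noetherian

universe u

open CategoryTheory CategoryTheory.Limits AlgebraicGeometry Opposite IsLocalRing TopologicalSpace

namespace HTop26

/-- A specialization of distinct points is realised by a discrete valuation ring. -/
theorem exists_dvr_of_specializes {P : Scheme.{u}} [IsLocallyNoetherian P] {p₀ p : P}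
    (h : p₀ ⤳ p) (hne : p ≠ p₀) :
    ∃ (W : CommRingCat.{u}) (_ : IsDomain W) (_ : IsDiscreteValuationRing W) (m : Spec W ⟶ P),
      m (gen W) = p₀ ∧ m (closedPoint W) = p := by
  obtain ⟨A, m, hA, hcl, hgen⟩ := Groth.Agent.DVRVal.exists_dvr_specializes (𝟙 P) p₀ p h hne
  refine ⟨CommRingCat.of A, inferInstanceAs (IsDomain A), hA, m, ?_, hcl⟩
  have hg : Spec.map (CommRingCat.ofHom A.subtype) (closedPoint (P.residueField p₀)) =
      gen (CommRingCat.of A) := by
    apply PrimeSpectrum.ext
    change Ideal.comap A.subtype (maximalIdeal (P.residueField p₀)) = ⊥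
    rw [IsLocalRing.maximalIdeal_eq_bot]
    exact (RingHom.injective_iff_ker_eq_bot _).mp Subtype.val_injective
  rw [← hg, ← Scheme.Hom.comp_apply, hgen, Category.comp_id]
  exact Scheme.fromSpecResidueField_apply _ _

lemma eq_gen_or_closed {R : CommRingCat.{u}} [IsDomain R] [IsDiscreteValuationRing R] (x : Spec R) :
    x = gen R ∨ x = closedPoint R := by
  have : Ring.DimensionLEOne R := inferInstance
  by_cases hx : x.asIdeal = ⊥
  · exact Or.inl (PrimeSpectrum.ext hx)
  · exact Or.inr (PrimeSpectrum.ext (IsLocalRing.eq_maximalIdeal (x.isPrime.isMaximal hx)))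

lemma closed_ne_gen {R : CommRingCat.{u}} [IsDomain R] [IsDiscreteValuationRing R] :
    closedPoint R ≠ gen R := fun h =>
  IsDiscreteValuationRing.not_a_field R (congrArg PrimeSpectrum.asIdeal h)

/-- Over a discrete valuation ring a quasi-compact quotient map lifts the specialization. -/
theorem exists_specializes_of_isQuotientMap {R : CommRingCat.{u}} [IsDomain R]
    [IsDiscreteValuationRing R] {P : Scheme.{u}} (q : P ⟶ Spec R) [QuasiCompact q]
    (hq : Topology.IsQuotientMap q) :
    ∃ p₀ p : P, p₀ ⤳ p ∧ q p₀ = gen R ∧ q p = closedPoint R := by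
  by_contra hcon
  have hη : ({gen R} : Set (Spec R)) = ({closedPoint R} : Set (Spec R))ᶜ := by
    ext x
    simp only [Set.mem_singleton_iff, Set.mem_compl_iff]
    exact ⟨fun hx => hx ▸ closed_ne_gen.symm, fun hx => (eq_gen_or_closed x).resolve_right hx⟩
  have hηo : IsOpen ({gen R} : Set (Spec R)) :=
    hη ▸ (IsLocalRing.isClosed_singleton_closedPoint (R := R)).isOpen_compl
  let O : P.Opens := ⟨q ⁻¹' {gen R}, hηo.preimage q.continuous⟩
  have hO : IsCompact (O : Set P) :=
    q.isSpectralMap.2 hηo (Set.finite_singleton _).isCompact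
  have hstab : StableUnderSpecialization (O : Set P) := fun a b hab ha => by
    rcases eq_gen_or_closed (q b) with hb | hb
    · exact hb
    · exact absurd ⟨a, b, hab, ha, hb⟩ hcon
  have : QuasiCompact O.ι := by
    let V : (Spec R).Opens := ⟨{gen R}, hηo⟩
    have hV : QuasiCompact V.ι := inferInstance
    exact MorphismProperty.of_isPullback (P := @QuasiCompact)
      (isPullback_morphismRestrict q V) hV
  have hclosed : IsClosed (O : Set P) := by
    have hsm : SpecializingMap O.ι := by
      intro x b hb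
      exact ⟨⟨b, hstab hb x.2⟩, O.ι.isOpenEmbedding.isInducing.specializes_iff.mp hb, rfl⟩
    have := (isClosedMap_iff_specializingMap O.ι).mpr hsm
    rw [← O.range_ι]
    exact this.isClosed_range
  have hcl : IsClosed ({gen R} : Set (Spec R)) :=
    ((Topology.isQuotientMap_iff_isClosed.mp hq).2 _).mpr hclosed
  exact closed_ne_gen (Set.mem_singleton_iff.mp
    ((gen_specializes (closedPoint R)).mem_closed hcl rfl))

/-- Universally submersive quasi-compact morphisms lift specializations along DVRs. -/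
theorem exists_specializes_of_univSubmersive {X S : Scheme.{u}} (f : X ⟶ S) [QuasiCompact f]
    (hf : SGA1.UnivSubmersive f) {R : CommRingCat.{u}} [IsDomain R] [IsDiscreteValuationRing R]
    (g : Spec R ⟶ S) :
    ∃ p₀ p : ↑(pullback g f), p₀ ⤳ p ∧ pullback.fst g f p₀ = gen R ∧
      pullback.fst g f p = closedPoint R :=
  exists_specializes_of_isQuotientMap _ (hf (pullback.snd g f) g (pullback.fst g f) (IsPullback.of_hasPullback g f))

theorem surjective_of_univSubmersive {X S : Scheme.{u}} (f : X ⟶ S)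
    (hf : SGA1.UnivSubmersive f) : Function.Surjective f :=
  (hf (𝟙 X) (𝟙 S) f (IsPullback.of_horiz_isIso ⟨by simp⟩ : IsPullback (𝟙 X) f f (𝟙 S)).flip).surjective

theorem quasiCompact_sigmaDesc {X : Scheme.{u}} {σ : Type u} [Finite σ] {Y : σ → Scheme.{u}}
    (f : ∀ i, Y i ⟶ X) [∀ i, QuasiCompact (f i)] : QuasiCompact (Sigma.desc f) := by
  refine ⟨fun U hU hUc => ?_⟩
  have : Sigma.desc f ⁻¹' U = ⋃ i, Sigma.ι Y i '' (f i ⁻¹' U) := by
    ext x
    obtain ⟨i, y, rfl⟩ := Groth.Agent.CurveNF.exists_sigma_eq x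
    simp only [Set.mem_preimage, Set.mem_iUnion, Set.mem_image]
    rw [← Scheme.Hom.comp_apply, Sigma.ι_desc]
    constructor
    · intro h; exact ⟨i, y, h, rfl⟩
    · rintro ⟨j, z, hz, e⟩
      rw [← Sigma.ι_desc f i, Scheme.Hom.comp_apply, ← e, ← Scheme.Hom.comp_apply, Sigma.ι_desc]
      exact hz
  rw [this]
  exact isCompact_iUnion fun i => ((f i).isSpectralMap.2 hU hUc).image (Sigma.ι Y i).continuous

/-- A point with no proper generalization avoids an effective Cartier divisor. -/
theorem notMem_support_of_forall_generalization {X : Scheme.{u}} {I : X.IdealSheafData}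
    (hI : BlowUp.IsEffCartierIdeal I) {x : X} (hx : ∀ y, y ⤳ x → y = x) : x ∉ I.support := by
  intro hmem
  obtain ⟨U, hxU, f, hf, hfI⟩ := hI x
  let p := U.2.primeIdealOf ⟨x, hxU⟩
  have hp : U.2.fromSpec p = x := U.2.fromSpec_primeIdealOf ⟨x, hxU⟩
  have hmin : p.asIdeal ∈ minimalPrimes Γ(X, U.1) := by
    refine ⟨⟨p.isPrime, bot_le⟩, fun Q hQ hQp => ?_⟩
    have h1 : U.2.fromSpec ⟨Q, hQ.1⟩ ⤳ x := by
      rw [← hp]
      exact (((PrimeSpectrum.le_iff_specializes ⟨Q, hQ.1⟩ p).mp hQp)).map U.2.fromSpec.continuous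
    have h2 := (hx _ h1).trans hp.symm
    have := congrArg PrimeSpectrum.asIdeal (U.2.fromSpec.isOpenEmbedding.injective h2)
    exact this.ge
  have h3 : p ∈ PrimeSpectrum.zeroLocus (I.ideal U : Set Γ(X, U.1)) := by
    have : x ∈ X.zeroLocus (U := U.1) (I.ideal U : Set Γ(X, U.1)) ∩ (U.1 : Set X) := by
      rw [← Scheme.IdealSheafData.coe_support_inter]
      exact ⟨hmem, hxU⟩
    have h5 : p ∈ U.2.fromSpec ⁻¹' (X.zeroLocus (U := U.1) (I.ideal U : Set Γ(X, U.1))) := by
      exact (congrArg (fun t => t ∈ X.zeroLocus (U := U.1) (I.ideal U : Set Γ(X, U.1))) hp).mpr this.1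
    rwa [U.2.fromSpec_preimage_zeroLocus] at h5
  have h4 : f ∈ p.asIdeal := h3 (by rw [hfI]; exact Ideal.subset_span rfl)
  exact Set.disjoint_left.mp (Ideal.disjoint_nonZeroDivisors_of_mem_minimalPrimes hmin) h4 hf

theorem exists_maximal_generalization {X : Scheme.{u}} (x : X) :
    ∃ η : X, η ⤳ x ∧ closure {η} ∈ irreducibleComponents X ∧ ∀ y, y ⤳ η → y = η := by
  obtain ⟨Z, hZ, hxZ⟩ : ∃ Z : Set X, Z ∈ irreducibleComponents (X : Type u) ∧ x ∈ Z :=
    ⟨irreducibleComponent x, irreducibleComponent_mem_irreducibleComponents x,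
      mem_irreducibleComponent⟩
  obtain ⟨η, hη⟩ := QuasiSober.sober hZ.1 (isClosed_of_mem_irreducibleComponents Z hZ)
  refine ⟨η, hη.specializes hxZ, hη.def.symm ▸ hZ, fun y hy => ?_⟩
  have hle : Z ⊆ closure {y} := by
    rw [← hη.def]
    exact closure_minimal (Set.singleton_subset_iff.mpr hy.mem_closure) isClosed_closure
  have heq := subset_antisymm hle (hZ.2 isIrreducible_singleton.closure hle)
  exact ((show IsGenericPoint y Z from heq.symm)).eq hη

end HTop26
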