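/-
Composites of standard ph coverings are refined by standard ph coverings.
-/
import Groth.Agent.Lib.HTop26.VCover
import Groth.Agent.Lib.CurveNF.SigmaProper
import Groth.Agent.Lib.ProjSpace.Basic
import Groth.Agent.S7409
import Mathlib.AlgebraicGeometry.Morphisms.Immersion
import Mathlib.AlgebraicGeometry.PullbackCarrier
import Mathlib.AlgebraicGeometry.IdealSheaf.Subscheme

universe w w' u

open CategoryTheory CategoryTheory.Limits AlgebraicGeometry TopologicalSpace

set_option backward.isDefEq.respectTransparency.types false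

namespace HTop26

open HTop

/-- A proper surjection onto an affine open extends to a proper surjection onto the whole scheme. -/
theorem exists_extension {R : CommRingCat.{u}} {U : Scheme.{u}} (f : U ⟶ Spec R) [IsProper f] {O : U.Opens}
    (hO : IsAffineOpen O) {W : Scheme.{u}} (g : W ⟶ O) [IsProper g] [Surjective g] :
    ∃ (V : Scheme.{u}) (p : V ⟶ U) (m : (↑(p ⁻¹ᵁ O) : Scheme.{u}) ⟶ W),
      IsProper p ∧ Surjective p ∧ m ≫ g = p ∣_ O := by
  haveI : IsAffine (O : Scheme.{u}) := hO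
  haveI : CompactSpace (O : Scheme.{u}) := isCompact_iff_compactSpace.mp hO.isCompact
  haveI : QuasiCompact (O.ι ≫ f) := inferInstance
  haveI : QuasiCompact O.ι := QuasiCompact.of_comp O.ι f
  obtain ⟨n, W', π, j, hj, hjg, hπ, hπs⟩ := Groth.Agent.S7409.result g
  haveI := hj
  haveI := hπ
  haveI := hπs
  let bO := CohB1.ProjSpaceOver.toBase n (O : Scheme.{u})
  let bU := CohB1.ProjSpaceOver.toBase n U
  let h : CohB1.ProjSpaceOver n (O : Scheme.{u}) ⟶ CohB1.ProjSpaceOver n U :=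
    pullback.lift (pullback.fst _ _) (bO ≫ O.ι) (specULiftZIsTerminal.hom_ext _ _)
  have hh2 : h ≫ bU = bO ≫ O.ι := pullback.lift_snd _ _ _
  have hbig : IsPullback h bO bU O.ι := by
    refine IsPullback.of_right ?_ hh2 (IsPullback.of_hasPullback
      (CohB1.ProjSpace.toSpec n (ULift.{u} ℤ)) (specULiftZIsTerminal.from U))
    rw [show h ≫ pullback.fst _ _ = pullback.fst _ _ from pullback.lift_fst _ _ _,
      show O.ι ≫ specULiftZIsTerminal.from U = specULiftZIsTerminal.from (O : Scheme.{u}) from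
        specULiftZIsTerminal.hom_ext _ _]
    exact IsPullback.of_hasPullback (CohB1.ProjSpace.toSpec n (ULift.{u} ℤ))
      (specULiftZIsTerminal.from (O : Scheme.{u}))
  haveI : IsOpenImmersion h := MorphismProperty.of_isPullback hbig.flip inferInstance
  let k := j ≫ h
  have hk : k ≫ bU = (π ≫ g) ≫ O.ι := by
    simp only [k, Category.assoc, hh2]
    rw [← Category.assoc, hjg, Category.assoc]
  haveI : QuasiCompact (k ≫ bU) := by rw [hk]; infer_instance
  haveI : QuasiCompact k := QuasiCompact.of_comp k bU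
  haveI : IsProper (j ≫ bO) := by rw [hjg]; infer_instance
  haveI : IsProper j := IsProper.of_comp j bO
  have hjcl : IsClosed (Set.range j) := j.isClosedMap.isClosed_range
  let Z := Scheme.IdealSheafData.vanishingIdeal (⟨(O : Set U)ᶜ, O.2.isClosed_compl⟩ : Closeds U)
  have hZ : Set.range Z.subschemeι = (O : Set U)ᶜ := by
    rw [Scheme.IdealSheafData.range_subschemeι, Scheme.IdealSheafData.coe_support_vanishingIdeal]
    simp
  let X : ULift.{u} Bool → Scheme.{u} := fun b => match b with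
    | ⟨true⟩ => k.image
    | ⟨false⟩ => Z.subscheme
  let q : ∀ b, X b ⟶ U := fun b => match b with
    | ⟨true⟩ => k.imageι ≫ bU
    | ⟨false⟩ => Z.subschemeι
  haveI hq : ∀ b, IsProper (q b ≫ f) := by
    rintro ⟨_ | _⟩
    · show IsProper (Z.subschemeι ≫ f)
      infer_instance
    · show IsProper ((k.imageι ≫ bU) ≫ f)
      infer_instance
  let p := Sigma.desc q
  have hpf : p ≫ f = Sigma.desc (fun b => q b ≫ f) := Sigma.hom_ext _ _ fun b => by simp [p]
  haveI : IsProper (p ≫ f) := by rw [hpf]; exact Groth.Agent.CurveNF.isProper_sigmaDesc _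
  haveI : IsProper p := IsProper.of_comp p f
  let e : W' ⟶ ∐ X := (k.toImage : W' ⟶ X ⟨true⟩) ≫ Sigma.ι X ⟨true⟩
  haveI : IsOpenImmersion e := by
    haveI : IsOpenImmersion (k.toImage : W' ⟶ X ⟨true⟩) := inferInstanceAs (IsOpenImmersion k.toImage)
    infer_instance
  have hep : e ≫ p = (π ≫ g) ≫ O.ι := by
    simp only [e, p, Category.assoc, Sigma.ι_desc]
    show k.toImage ≫ k.imageι ≫ bU = _
    rw [← Category.assoc, k.toImage_imageι, hk]
    simp
  have hrange : Set.range (p ⁻¹ᵁ O).ι ⊆ Set.range e := by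
    rw [Scheme.Opens.range_ι]
    intro v hv
    obtain ⟨⟨_ | _⟩, y, rfl⟩ := Groth.Agent.CurveNF.exists_sigma_eq v
    · exfalso
      have : p (Sigma.ι X ⟨false⟩ y) = Z.subschemeι y := by
        rw [← Scheme.Hom.comp_apply]; simp only [p, Sigma.ι_desc]; rfl
      have h1 : Z.subschemeι y ∈ O := this ▸ hv
      exact (hZ ▸ ⟨y, rfl⟩ : Z.subschemeι y ∈ (O : Set U)ᶜ) h1
    · have h1 : bU (k.imageι y) ∈ O := by
        have : p (Sigma.ι X ⟨true⟩ y) = bU (k.imageι y) := by
          rw [← Scheme.Hom.comp_apply]; simp only [p, Sigma.ι_desc]; rfl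
        exact this ▸ hv
      obtain ⟨a, ha, -⟩ := Scheme.Pullback.exists_preimage_pullback (f := bU) (g := O.ι) (k.imageι y) ⟨_, h1⟩ rfl
      let a' := hbig.isoPullback.inv a
      have ha' : h a' = k.imageι y := by
        rw [← ha, ← Scheme.Hom.comp_apply, hbig.isoPullback_inv_fst]
      have hmem : k.imageι y ∈ closure (Set.range k) := by
        rw [← Scheme.Hom.support_ker, ← k.ker.range_subschemeι]
        exact ⟨y, rfl⟩
      have hcl : a' ∈ closure (Set.range j) := by
        rw [← (h.isOpenEmbedding.isOpenMap.preimage_closure_eq_closure_preimage h.continuous (Set.range k)).trans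
          (congrArg closure (show h ⁻¹' Set.range k = Set.range j from ?_))]
        · rw [Set.mem_preimage, ha']; exact hmem
        · show h ⁻¹' Set.range (j ≫ h) = _
          rw [Scheme.Hom.comp_base, TopCat.coe_comp, Set.range_comp, Set.preimage_image_eq _ h.isOpenEmbedding.injective]
      rw [hjcl.closure_eq] at hcl
      obtain ⟨w, hw⟩ := hcl
      refine ⟨w, ?_⟩
      have h2 : k.toImage w = y := by
        apply k.imageι.isClosedEmbedding.injective
        rw [← Scheme.Hom.comp_apply, k.toImage_imageι, ← ha']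
        show h (j w) = h a'
        rw [hw]
      show Sigma.ι X ⟨true⟩ (k.toImage w) = _
      rw [h2]
  let l := IsOpenImmersion.lift e (p ⁻¹ᵁ O).ι hrange
  refine ⟨∐ X, p, l ≫ π, inferInstance, ⟨fun u => ?_⟩, ?_⟩
  · by_cases hu : u ∈ O
    · obtain ⟨w, hw⟩ := (π ≫ g).surjective ⟨u, hu⟩
      refine ⟨e w, ?_⟩
      rw [← Scheme.Hom.comp_apply, hep, Scheme.Hom.comp_apply, hw]
      rfl
    · obtain ⟨y, hy⟩ : u ∈ Set.range Z.subschemeι := hZ ▸ hu
      refine ⟨Sigma.ι X ⟨false⟩ y, ?_⟩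
      rw [← hy, ← Scheme.Hom.comp_apply]; simp only [p, Sigma.ι_desc]; rfl
  · rw [← cancel_mono O.ι, morphismRestrict_ι, Category.assoc, Category.assoc, ← IsOpenImmersion.lift_fac e (p ⁻¹ᵁ O).ι hrange,
      Category.assoc, hep, Category.assoc]

theorem factor_resLE {U V V' W : Scheme.{u}} {O : U.Opens} {p : V ⟶ U} {p' : V' ⟶ U} (a : V' ⟶ V)
    (ha : a ≫ p = p') {g : W ⟶ O} {m : (↑(p ⁻¹ᵁ O) : Scheme.{u}) ⟶ W} (hm : m ≫ g = p ∣_ O) :
    ∃ m' : (↑(p' ⁻¹ᵁ O) : Scheme.{u}) ⟶ W, m' ≫ g = p' ∣_ O := by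
  subst ha
  refine ⟨a.resLE (p ⁻¹ᵁ O) ((a ≫ p) ⁻¹ᵁ O) le_rfl ≫ m, ?_⟩
  rw [Category.assoc, hm, ← cancel_mono O.ι, Category.assoc, morphismRestrict_ι, morphismRestrict_ι,
    Scheme.Hom.resLE_comp_ι_assoc]

/-- Simultaneous extension over finitely many affine opens. -/
theorem exists_common_extension {R : CommRingCat.{u}} {U : Scheme.{u}} (f : U ⟶ Spec R) [IsProper f]
    {J : Type w} [Finite J] (O : J → U.Opens) (hO : ∀ j, IsAffineOpen (O j)) (W : J → Scheme.{u})
    (g : ∀ j, W j ⟶ O j) (hg : ∀ j, IsProper (g j)) (hgs : ∀ j, Surjective (g j)) :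
    ∃ (V : Scheme.{u}) (p : V ⟶ U), IsProper p ∧ Surjective p ∧
      ∀ j, ∃ m : (↑(p ⁻¹ᵁ O j) : Scheme.{u}) ⟶ W j, m ≫ g j = p ∣_ O j := by
  classical
  haveI := Fintype.ofFinite J
  suffices ∀ s : Finset J, ∃ (V : Scheme.{u}) (p : V ⟶ U), IsProper p ∧ Surjective p ∧
      ∀ j ∈ s, ∃ m : (↑(p ⁻¹ᵁ O j) : Scheme.{u}) ⟶ W j, m ≫ g j = p ∣_ O j by
    obtain ⟨V, p, h1, h2, h3⟩ := this Finset.univ
    exact ⟨V, p, h1, h2, fun j => h3 j (Finset.mem_univ j)⟩
  intro s
  induction s using Finset.induction with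
  | empty => exact ⟨U, 𝟙 U, inferInstance, inferInstance, by simp⟩
  | @insert a s ha ih =>
    obtain ⟨V, p, h1, h2, h3⟩ := ih
    haveI := hg a
    haveI := hgs a
    obtain ⟨V₁, p₁, m₁, h4, h5, h6⟩ := exists_extension f (hO a) (g a)
    haveI : Surjective (pullback.fst p p₁) := MorphismProperty.pullback_fst (P := @Surjective) _ _ h5
    refine ⟨pullback p p₁, pullback.fst p p₁ ≫ p, inferInstance, inferInstance, fun j hj => ?_⟩
    rcases Finset.mem_insert.1 hj with rfl | hj
    · exact factor_resLE (pullback.snd p p₁) pullback.condition.symm h6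
    · obtain ⟨m, hm⟩ := h3 j hj
      exact factor_resLE (pullback.fst p p₁) rfl hm

/-- A family of local factorisations on a proper surjective cover gives a standard ph refinement. -/
theorem exists_isStandardPh_of_proper {T V : Scheme.{u}} [IsAffine T] (q : V ⟶ T) [IsProper q] [Surjective q]
    (E : PreZeroHypercover.{w} T)
    (h : ∀ v : V, ∃ (A : V.Opens), v ∈ A ∧ IsAffineOpen A ∧
      ∃ (i : E.I₀) (l : (A : Scheme.{u}) ⟶ E.X i), l ≫ E.f i = A.ι ≫ q) :
    ∃ F : PreZeroHypercover.{0} T, IsStandardPh F ∧ Nonempty (F.Hom E) := by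
  haveI : CompactSpace V := QuasiCompact.compactSpace_of_compactSpace q
  choose A hv hA i l hl using h
  obtain ⟨t, ht⟩ := IsCompact.elim_finite_subcover (isCompact_univ (X := V)) (fun v => (A v : Set V))
    (fun v => (A v).2) (fun v _ => Set.mem_iUnion.mpr ⟨v, hv v⟩)
  let e := (Fintype.equivFin t).symm
  let F : PreZeroHypercover.{0} T :=
    { I₀ := Fin (Fintype.card t)
      X := fun k => (A (e k).1 : Scheme.{u})
      f := fun k => (A (e k).1).ι ≫ q }
  refine ⟨F, ⟨inferInstance, inferInstanceAs (Finite (Fin _)), fun k => hA _,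
    ⟨V, q, fun k => (A (e k).1).ι, inferInstance, inferInstance,
      fun k => inferInstanceAs (IsOpenImmersion (A (e k).1).ι), fun k => rfl, fun x => ?_⟩⟩,
    ⟨{ s₀ := fun k => i (e k).1, h₀ := fun k => l (e k).1, w₀ := fun k => hl (e k).1 }⟩⟩
  obtain ⟨y, hy, hxy⟩ := Set.mem_iUnion₂.mp (ht (Set.mem_univ x))
  refine ⟨e.symm ⟨y, hy⟩, ?_⟩
  show x ∈ Set.range (A (e (e.symm ⟨y, hy⟩)).1).ι
  rw [Equiv.apply_symm_apply, Scheme.Opens.range_ι]
  exact hxy

/-- Open coverings of affine schemes are refined by standard ph coverings. -/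
theorem exists_isStandardPh_openCover {T : Scheme.{u}} [IsAffine T] (𝒰 : T.OpenCover) :
    ∃ F : PreZeroHypercover.{0} T, IsStandardPh F ∧ Nonempty (F.Hom 𝒰.toPreZeroHypercover) := by
  refine exists_isStandardPh_of_proper (𝟙 T) _ fun v => ?_
  obtain ⟨i, y, hy⟩ := 𝒰.exists_eq v
  obtain ⟨A, hA, hvA, hle⟩ := exists_isAffineOpen_mem_and_subset (X := T) (x := v) (U := (𝒰.f i).opensRange) ⟨y, hy⟩
  refine ⟨A, hvA, hA, i, IsOpenImmersion.lift (𝒰.f i) A.ι (by rw [Scheme.Opens.range_ι]; exact hle), ?_⟩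
  rw [Category.comp_id]
  exact IsOpenImmersion.lift_fac _ _ _

/-- A composite of standard ph coverings is refined by a standard ph covering. -/
theorem exists_isStandardPh_bind {T : Scheme.{u}} [IsAffine T] {E : PreZeroHypercover.{w} T} (hE : IsStandardPh E)
    {F : ∀ j, PreZeroHypercover.{w'} (E.X j)} (hF : ∀ j, IsStandardPh (F j)) :
    ∃ F' : PreZeroHypercover.{0} T, IsStandardPh F' ∧ Nonempty (F'.Hom (E.bind F)) := by
  obtain ⟨U, f, ι, hfp, hfs, hι, hιf, hcov⟩ := hE.exists_proper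
  haveI := hfp
  haveI := hfs
  haveI := hE.finite_index
  haveI := hι
  choose W g κ hg hgs hκ hκg hκcov using fun j => (hF j).exists_proper
  haveI : IsProper (f ≫ T.isoSpec.hom) := inferInstance
  let iso := fun j => (ι j).isoOpensRange
  haveI := hE.isAffine_obj
  obtain ⟨V, p, hp, hps, hm⟩ := exists_common_extension (f ≫ T.isoSpec.hom) (fun j => (ι j).opensRange)
    (fun j => isAffineOpen_opensRange (ι j)) W (fun j => g j ≫ (iso j).hom)
    (fun j => by haveI := hg j; infer_instance) (fun j => by haveI := hgs j; infer_instance)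
  haveI := hp
  haveI := hps
  choose m hm using hm
  refine exists_isStandardPh_of_proper (p ≫ f) (E.bind F) fun v => ?_
  obtain ⟨j, hj⟩ := hcov (p v)
  let P := p ⁻¹ᵁ (ι j).opensRange
  let v' : P := ⟨v, hj⟩
  obtain ⟨k, hk⟩ := hκcov j (m j v')
  haveI := hκ j k
  let B : V.Opens := P.ι ''ᵁ (m j ⁻¹ᵁ (κ j k).opensRange)
  obtain ⟨A, hA, hvA, hAB⟩ := exists_isAffineOpen_mem_and_subset (X := V) (x := v) (U := B) ⟨v', hk, rfl⟩
  have hAP : A ≤ P := fun x hx => by
    obtain ⟨y, -, rfl⟩ := hAB hx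
    exact y.2
  let a := V.homOfLE hAP ≫ m j
  have hra : Set.range a ⊆ Set.range (κ j k) := by
    rintro _ ⟨y, rfl⟩
    obtain ⟨z, hz, hzy⟩ := hAB y.2
    have : V.homOfLE hAP y = z := P.ι.isOpenEmbedding.injective (by
      rw [← Scheme.Hom.comp_apply, Scheme.homOfLE_ι]; exact hzy.symm)
    show m j (V.homOfLE hAP y) ∈ _
    rw [this]
    exact hz
  refine ⟨A, hvA, hA, ⟨j, k⟩, (IsOpenImmersion.lift (κ j k) a hra : (A : Scheme.{u}) ⟶ (F j).X k), ?_⟩
  show IsOpenImmersion.lift (κ j k) a hra ≫ (F j).f k ≫ E.f j = _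
  have h1 : (iso j).hom ≫ (ι j).opensRange.ι = ι j := (ι j).isoOpensRange_hom_ι
  rw [← hκg, Category.assoc, IsOpenImmersion.lift_fac_assoc, ← hιf, ← h1]
  simp only [a, Category.assoc]
  rw [reassoc_of% (hm j), morphismRestrict_ι_assoc, Scheme.homOfLE_ι_assoc]

end HTop26
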