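/-
ph coverings: local criterion, refinement over affines, base change, composition.
-/
import Groth.Agent.Lib.HTop26.PhBind

universe w w' w'' u

open CategoryTheory CategoryTheory.Limits AlgebraicGeometry TopologicalSpace

set_option backward.isDefEq.respectTransparency.types false

namespace HTop26

open HTop

variable {T : Scheme.{u}}

theorem refinesOver_of_hom_left {U : Scheme.{u}} {g : U ⟶ T} {F : PreZeroHypercover.{w'} U}
    {G : PreZeroHypercover.{w''} U} {E : PreZeroHypercover.{w} T} (φ : F.Hom G) (h : RefinesOver g G E) :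
    RefinesOver g F E := by
  intro j
  obtain ⟨i, k, hk⟩ := h (φ.s₀ j)
  exact ⟨i, φ.h₀ j ≫ k, by rw [Category.assoc, hk, ← Category.assoc, φ.w₀]⟩

/-- Local criterion: over an affine scheme, a family admits a standard ph refinement as soon as it does locally. -/
theorem exists_isStandardPh_of_local {U : Scheme.{u}} [IsAffine U] (g : U ⟶ T)
    (E : PreZeroHypercover.{w} T)
    (h : ∀ x : U, ∃ W : U.Opens, x ∈ W ∧ IsAffineOpen W ∧
      ∃ F : PreZeroHypercover.{0} (W : Scheme.{u}), IsStandardPh F ∧ RefinesOver (W.ι ≫ g) F E) :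
    ∃ F : PreZeroHypercover.{0} U, IsStandardPh F ∧ RefinesOver g F E := by
  choose W hx hW F hF hR using h
  let 𝒰 : U.OpenCover := U.openCoverOfIsOpenCover W
    (.mk (top_le_iff.mp fun x _ => Opens.mem_iSup.mpr ⟨x, hx x⟩))
  obtain ⟨G, hG, ⟨φ⟩⟩ := exists_isStandardPh_openCover 𝒰
  haveI := hG.isAffine_obj
  obtain ⟨F', hF', ⟨ψ⟩⟩ := exists_isStandardPh_bind hG
    (F := fun k => (F (φ.s₀ k)).pullback₁ (φ.h₀ k)) (fun k => isStandardPh_pullback₁ _ (hF _))
  refine ⟨F', hF', refinesOver_of_hom_left ψ fun kl => ?_⟩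
  obtain ⟨i, m, hm⟩ := RefinesOver.pullback₁ (φ.h₀ kl.1) (hR (φ.s₀ kl.1)) kl.2
  refine ⟨i, m, hm.trans ?_⟩
  show _ = (_ ≫ G.f kl.1) ≫ g
  rw [← φ.w₀ kl.1]
  simp only [Category.assoc]
  rfl

/-- A ph covering has standard ph refinements over every affine scheme mapping to the base. -/
theorem IsPhCover.exists_isStandardPh {E : PreZeroHypercover.{w} T} (hE : IsPhCover E)
    {Z : Scheme.{u}} [IsAffine Z] (g : Z ⟶ T) :
    ∃ F : PreZeroHypercover.{0} Z, IsStandardPh F ∧ RefinesOver g F E := by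
  refine exists_isStandardPh_of_local g E fun x => ?_
  obtain ⟨U, hU, hxU, -⟩ := exists_isAffineOpen_mem_and_subset (X := T) (x := g x) (U := ⊤) trivial
  obtain ⟨W, hW, hxW, hWle⟩ := exists_isAffineOpen_mem_and_subset (X := Z) (x := x) (U := g ⁻¹ᵁ U) hxU
  obtain ⟨F, hF, hR⟩ := hE.2 ⟨U, hU⟩
  have : IsAffine (W : Scheme.{u}) := hW
  refine ⟨W, hxW, hW, F.pullback₁ (g.resLE U W hWle), isStandardPh_pullback₁ _ hF, ?_⟩
  rw [← Scheme.Hom.resLE_comp_ι g hWle]
  exact RefinesOver.pullback₁ _ hR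

theorem isPhCover_pullback₁ {T' : Scheme.{u}} (g : T' ⟶ T) {E : PreZeroHypercover.{w} T}
    (hE : IsPhCover E) : IsPhCover (E.pullback₁ g) :=
  ⟨fun i => MorphismProperty.pullback_fst (P := @LocallyOfFiniteType) g (E.f i) (hE.1 i), fun U => by
    have : IsAffine ((U : T'.Opens) : Scheme.{u}) := U.2
    obtain ⟨F, hF, hR⟩ := IsPhCover.exists_isStandardPh hE ((U : T'.Opens).ι ≫ g)
    exact ⟨F, hF, refinesOver_into_pullback₁ hR⟩⟩

theorem isPhCover_bind {E : PreZeroHypercover.{w} T} (hE : IsPhCover E)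
    {F : ∀ i, PreZeroHypercover.{w'} (E.X i)} (hF : ∀ i, IsPhCover (F i)) :
    IsPhCover (E.bind F) := by
  refine ⟨fun il => MorphismProperty.comp_mem @LocallyOfFiniteType _ _ ((hF il.1).1 il.2) (hE.1 il.1),
    fun U => ?_⟩
  obtain ⟨G, hG, hR⟩ := hE.2 U
  choose i k hk using hR
  haveI := U.2
  have := hG.isAffine_obj
  haveI := hG.isAffine
  choose H hH hR' using fun j => IsPhCover.exists_isStandardPh (hF (i j)) (k j)
  obtain ⟨F', hF', ⟨ψ⟩⟩ := exists_isStandardPh_bind hG hH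
  refine ⟨F', hF', refinesOver_of_hom_left ψ fun jl => ?_⟩
  obtain ⟨l, m, hm⟩ := hR' jl.1 jl.2
  refine ⟨⟨i jl.1, l⟩, m, ?_⟩
  show m ≫ (F (i jl.1)).f l ≫ E.f (i jl.1) = ((H jl.1).f jl.2 ≫ G.f jl.1) ≫ _
  rw [← Category.assoc, hm, Category.assoc, hk, Category.assoc]

end HTop26
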